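import Mathlib.RingTheory.Kaehler.Basic
import Mathlib.FieldTheory.IntermediateField.Adjoin.Basic
import Mathlib.FieldTheory.IntermediateField.Algebraic
import Mathlib.FieldTheory.KummerPolynomial
import Mathlib.Algebra.CharP.Lemmas
import Mathlib.Algebra.CharP.Frobenius
import Mathlib.Algebra.CharP.Algebra
import Mathlib.Algebra.Field.Subfield.Basic
import Mathlib.RingTheory.Derivation.Basic
import Mathlib.LinearAlgebra.TensorProduct.Basis
import Mathlib.Algebra.Polynomial.Derivative
import Mathlib.FieldTheory.Minpoly.Field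

/-!
# Differentials of a field relative to subfields containing the `p`-th powers
-/

universe u v
open scoped TensorProduct
open Polynomial

namespace Groth.Agent.KaehlerSubfield

variable {k : Type u} [Field k] (p : ℕ) [Fact p.Prime] [CharP k p]

theorem pow_injective {x y : k} (h : x ^ p = y ^ p) : x = y :=
  frobenius_inj k p (by simpa [frobenius_def] using h)

theorem exists_maximal (L : Subfield k) {y : k} (hy : y ∉ L) :
    ∃ M : Subfield k, L ≤ M ∧ y ∉ M ∧ ∀ N : Subfield k, M ≤ N → y ∉ N → N ≤ M := by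
  obtain ⟨M, hLM, hM⟩ := zorn_le_nonempty₀ {N : Subfield k | L ≤ N ∧ y ∉ N} (fun c hc hch z hz => by
    refine ⟨sSup c, ⟨(hc hz).1.trans (le_sSup hz), fun hmem => ?_⟩, fun N hN => le_sSup hN⟩
    obtain ⟨N, hN, hyN⟩ := (Subfield.mem_sSup_of_directedOn ⟨z, hz⟩ hch.directedOn).mp hmem
    exact (hc hN).2 hyN) L ⟨le_rfl, hy⟩
  exact ⟨M, hLM, hM.1.2, fun N hMN hyN => hM.2 ⟨hLM.trans hMN, hyN⟩ hMN⟩

theorem minpoly_eq (M : Subfield k) (hM : ∀ x : k, x ^ p ∈ M) {z : k} (hz : z ∉ M) :
    minpoly M z = X ^ p - C (⟨z ^ p, hM z⟩ : M) := by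
  refine (minpoly.eq_of_irreducible_of_monic ?_ ?_ (monic_X_pow_sub_C _ (Fact.out : p.Prime).ne_zero)).symm
  · refine X_pow_sub_C_irreducible_of_prime Fact.out fun b hb => hz ?_
    rw [← pow_injective p (congrArg Subtype.val hb : (b : k) ^ p = z ^ p)]
    exact b.2
  · simp only [map_sub, aeval_X_pow, aeval_C]
    exact sub_self _

theorem isIntegral (M : Subfield k) (hM : ∀ x : k, x ^ p ∈ M) (z : k) : IsIntegral M z :=
  ⟨X ^ p - C (⟨z ^ p, hM z⟩ : M), monic_X_pow_sub_C _ (Fact.out : p.Prime).ne_zero, by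
    show eval₂ (algebraMap M k) z _ = 0
    rw [eval₂_sub, eval₂_X_pow, eval₂_C]
    exact sub_self _⟩

theorem aeval_surjective (M : Subfield k) (hM : ∀ x : k, x ^ p ∈ M) {y : k} (hy : y ∉ M)
    (hmax : ∀ N : Subfield k, M ≤ N → y ∉ N → N ≤ M) (z : k) : ∃ P : M[X], aeval y P = z := by
  have hfin : ∀ w, w ∉ M → Module.finrank M (IntermediateField.adjoin M {w}) = p := fun w hw => by
    rw [IntermediateField.adjoin.finrank (isIntegral p M hM w), minpoly_eq p M hM hw, natDegree_X_pow_sub_C]
  have hle : ∀ (w : k), M ≤ (IntermediateField.adjoin M {w}).toSubfield := fun w c hc =>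
    (IntermediateField.adjoin M {w}).algebraMap_mem ⟨c, hc⟩
  have hzmem : z ∈ IntermediateField.adjoin M {y} := by
    by_cases hz : z ∈ M
    · exact hle y hz
    have hyz : y ∈ IntermediateField.adjoin M {z} := by
      by_contra hyz
      exact hz (hmax _ (hle z) hyz (IntermediateField.mem_adjoin_simple_self M z))
    haveI : FiniteDimensional M (IntermediateField.adjoin M {z}) :=
      IntermediateField.adjoin.finiteDimensional (isIntegral p M hM z)
    rw [IntermediateField.eq_of_le_of_finrank_eq (IntermediateField.adjoin_simple_le_iff.mpr hyz)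
      ((hfin y hy).trans (hfin z hz).symm)]
    exact IntermediateField.mem_adjoin_simple_self M z
  rw [← IntermediateField.mem_toSubalgebra, IntermediateField.adjoin_simple_toSubalgebra_of_isAlgebraic
    (isIntegral p M hM y).isAlgebraic, Algebra.adjoin_singleton_eq_range_aeval] at hzmem
  exact hzmem

/-- A derivation not killing `y ∉ L`. -/
theorem exists_derivation (L : Subfield k) (hL : ∀ x : k, x ^ p ∈ L) {y : k} (hy : y ∉ L) :
    ∃ d : Derivation L k k, d y = 1 := by
  obtain ⟨M, hLM, hyM, hmax⟩ := exists_maximal L hy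
  have hM : ∀ x : k, x ^ p ∈ M := fun x => hLM (hL x)
  choose P hP using aeval_surjective p M hM hyM hmax
  have key : ∀ P Q : M[X], aeval y P = aeval y Q → aeval y (derivative P) = aeval y (derivative Q) := by
    intro P Q h
    obtain ⟨R, hR⟩ := minpoly.dvd M y (show aeval y (P - Q) = 0 by rw [map_sub, h, sub_self])
    haveI : CharP M p := (RingHom.charP_iff M.subtype M.subtype.injective p).mpr inferInstance
    have h0 : derivative (minpoly M y) = 0 := by
      rw [minpoly_eq p M hM hyM, derivative_sub, derivative_X_pow, derivative_C, sub_zero, CharP.cast_eq_zero,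
        map_zero, zero_mul]
    rw [← sub_eq_zero, ← map_sub, ← derivative_sub, hR, derivative_mul, h0, zero_mul, zero_add, map_mul,
      minpoly.aeval, zero_mul]
  refine ⟨{ toFun := fun z => aeval y (derivative (P z))
            map_add' := fun a b => ?_
            map_smul' := fun c a => ?_
            map_one_eq_zero' := ?_
            leibniz' := fun a b => ?_ }, ?_⟩
  · rw [← map_add, ← derivative_add]
    exact key _ _ (by rw [map_add, hP, hP, hP])
  · show aeval y (derivative (P (c • a))) = c • aeval y (derivative (P a))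
    rw [key (P (c • a)) (C (⟨c, hLM c.2⟩ : M) * P a) (by rw [map_mul, aeval_C, hP, hP]; rfl),
      derivative_C_mul, map_mul, aeval_C]
    rfl
  · show aeval y (derivative (P 1)) = 0
    rw [key (P 1) 1 (by rw [hP, map_one]), derivative_one, map_zero]
  · show aeval y (derivative (P (a * b))) = a • aeval y (derivative (P b)) + b • aeval y (derivative (P a))
    rw [key (P (a * b)) (P a * P b) (by rw [map_mul, hP, hP, hP]), derivative_mul, map_add, map_mul, map_mul, hP, hP,
      smul_eq_mul, smul_eq_mul]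
    ring
  · show aeval y (derivative (P y)) = 1
    rw [key (P y) X (by rw [hP, aeval_X]), derivative_X, map_one]

theorem D_ne_zero (L : Subfield k) (hL : ∀ x : k, x ^ p ∈ L) {y : k} (hy : y ∉ L) :
    KaehlerDifferential.D L k y ≠ 0 := fun h => by
  obtain ⟨d, hd⟩ := exists_derivation p L hL hy
  rw [← Derivation.liftKaehlerDifferential_comp_D d, h, map_zero] at hd
  exact zero_ne_one hd

/-- `L(y)`. -/
def adj (L : Subfield k) (y : k) : Subfield k := (IntermediateField.adjoin L {y}).toSubfield

theorem le_adj (L : Subfield k) (y : k) : L ≤ adj L y := fun c hc =>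
  (IntermediateField.adjoin L {y}).algebraMap_mem ⟨c, hc⟩

theorem self_mem_adj (L : Subfield k) (y : k) : y ∈ adj L y := IntermediateField.mem_adjoin_simple_self L y

theorem adj_mono {L L' : Subfield k} (h : L ≤ L') (y : k) : adj L y ≤ adj L' y := by
  intro z hz
  refine IntermediateField.adjoin_induction (F := L) (s := {y}) (p := fun w _ => w ∈ adj L' y) ?_ ?_ ?_ ?_ ?_ hz
  · rintro w rfl
    exact self_mem_adj L' w
  · exact fun c => le_adj L' y (h c.2)
  · exact fun _ _ _ _ => add_mem
  · exact fun _ _ => inv_mem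
  · exact fun _ _ _ _ => mul_mem

theorem exists_coeff (L : Subfield k) (hL : ∀ x : k, x ^ p ∈ L) {y z : k} (hz : z ∈ adj L y) :
    ∃ c : ℕ → k, (∀ j, c j ∈ L) ∧ ∑ j ∈ Finset.range p, c j * y ^ j = z := by
  change z ∈ (IntermediateField.adjoin L {y}).toSubalgebra at hz
  rw [IntermediateField.adjoin_simple_toSubalgebra_of_isAlgebraic
    (isIntegral p L hL y).isAlgebraic, Algebra.adjoin_singleton_eq_range_aeval] at hz
  obtain ⟨P, rfl⟩ := hz
  let q : L[X] := X ^ p - C (⟨y ^ p, hL y⟩ : L)
  have hq : q.Monic := monic_X_pow_sub_C _ (Fact.out : p.Prime).ne_zero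
  have hdeg : (P %ₘ q).degree < (p : WithBot ℕ) :=
    lt_of_lt_of_le (degree_modByMonic_lt P hq) (degree_X_pow_sub_C (Fact.out : p.Prime).pos _).le
  refine ⟨fun j => ((P %ₘ q).coeff j : k), fun j => ((P %ₘ q).coeff j).2, ?_⟩
  have h1 : aeval y (P %ₘ q) = aeval y P := aeval_modByMonic_eq_self_of_root (by
    simp only [q, map_sub, aeval_X_pow, aeval_C]
    exact sub_self _)
  show _ = aeval y P
  rw [← h1, aeval_eq_sum_range' (n := p) (by
    by_cases h0 : P %ₘ q = 0
    · rw [h0, natDegree_zero]; exact (Fact.out : p.Prime).pos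
    · exact (natDegree_lt_iff_degree_lt h0).mpr hdeg)]
  exact Finset.sum_congr rfl fun j _ => (Algebra.smul_def ((P %ₘ q).coeff j) (y ^ j)).symm

theorem coeff_unique (L : Subfield k) (hL : ∀ x : k, x ^ p ∈ L) {y : k} (hy : y ∉ L) (c c' : ℕ → k)
    (hc : ∀ j, c j ∈ L) (hc' : ∀ j, c' j ∈ L)
    (h : ∑ j ∈ Finset.range p, c j * y ^ j = ∑ j ∈ Finset.range p, c' j * y ^ j) {j : ℕ} (hj : j < p) :
    c j = c' j := by
  let P : L[X] := ∑ i ∈ Finset.range p, monomial i (⟨c i, hc i⟩ - ⟨c' i, hc' i⟩ : L)
  have hP : aeval y P = 0 := by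
    simp only [P, map_sum, aeval_monomial, map_sub]
    show ∑ i ∈ Finset.range p, (c i * y ^ i - c' i * y ^ i) = 0
    simp only [Finset.sum_sub_distrib, h, sub_self]
  by_contra hne
  have hcoeff : P.coeff j = ⟨c j, hc j⟩ - ⟨c' j, hc' j⟩ := by
    simp [P, finsetSum_coeff, coeff_monomial, hj]
  have hP0 : P ≠ 0 := fun h0 => hne (by
    have h2 := congrArg Subtype.val (hcoeff.symm.trans (by rw [h0, coeff_zero]))
    exact sub_eq_zero.mp h2)
  have h3 := minpoly.degree_le_of_ne_zero L y hP0 hP
  rw [minpoly_eq p L hL hy, degree_X_pow_sub_C (Fact.out : p.Prime).pos] at h3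
  have h4 : P.degree < (p : WithBot ℕ) := by
    refine (degree_sum_le _ _).trans_lt ((Finset.sup_lt_iff (WithBot.bot_lt_coe p)).mpr fun i hi => ?_)
    exact (degree_monomial_le i _).trans_lt (Nat.cast_lt.mpr (Finset.mem_range.mp hi))
  exact absurd (h3.trans_lt h4) (lt_irrefl _)

/-- Change of subfield on differentials. -/
noncomputable def mapLe {L L' : Subfield k} (h : L ≤ L') : Ω[k⁄L] →ₗ[k] Ω[k⁄L'] :=
  ({ toFun := KaehlerDifferential.D L' k
     map_add' := map_add _
     map_smul' := fun c x => (KaehlerDifferential.D L' k).map_smul (⟨c, h c.2⟩ : L') x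
     map_one_eq_zero' := (KaehlerDifferential.D L' k).map_one_eq_zero
     leibniz' := (KaehlerDifferential.D L' k).leibniz } : Derivation L k Ω[k⁄L']).liftKaehlerDifferential

theorem mapLe_D {L L' : Subfield k} (h : L ≤ L') (x : k) :
    mapLe h (KaehlerDifferential.D L k x) = KaehlerDifferential.D L' k x :=
  Derivation.liftKaehlerDifferential_comp_D _ x

theorem mem_span_of_mapLe_adj_eq_zero (L : Subfield k) (hL : ∀ x : k, x ^ p ∈ L) (y : k) {w : Ω[k⁄L]}
    (hw : mapLe (le_adj L y) w = 0) : w ∈ Submodule.span k {KaehlerDifferential.D L k y} := by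
  let S := Submodule.span k {KaehlerDifferential.D L k y}
  let q : Derivation L k (Ω[k⁄L] ⧸ S) := S.mkQ.compDer (KaehlerDifferential.D L k)
  have hqy : q y = 0 := (Submodule.Quotient.mk_eq_zero S).mpr (Submodule.subset_span rfl)
  have hq0 : ∀ c ∈ adj L y, q c = 0 := fun c hc => by
    obtain ⟨e, he, rfl⟩ := exists_coeff p L hL hc
    rw [map_sum]
    refine Finset.sum_eq_zero fun j _ => ?_
    rw [Derivation.leibniz, Derivation.leibniz_pow, hqy, smul_zero, smul_zero, smul_zero, zero_add,
      show q (e j) = 0 from q.map_algebraMap ⟨e j, he j⟩, smul_zero]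
  let q' : Derivation (adj L y) k (Ω[k⁄L] ⧸ S) :=
    { toFun := q
      map_add' := map_add q
      map_smul' := fun c x => by
        show q ((c : k) * x) = (c : k) • q x
        rw [Derivation.leibniz, hq0 _ c.2, smul_zero, add_zero]
      map_one_eq_zero' := q.map_one_eq_zero
      leibniz' := q.leibniz }
  have h : q'.liftKaehlerDifferential ∘ₗ mapLe (le_adj L y) = S.mkQ := by
    refine LinearMap.ext_on_range (KaehlerDifferential.span_range_derivation L k) fun x => ?_
    rw [LinearMap.comp_apply, mapLe_D, Derivation.liftKaehlerDifferential_comp_D]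
    rfl
  have h2 := LinearMap.congr_fun h w
  rw [LinearMap.comp_apply, hw, map_zero] at h2
  exact (Submodule.Quotient.mk_eq_zero S).mp h2.symm

theorem linearIndependent_of_le {L L' : Subfield k} (h : L ≤ L') {ι : Type*} {y : ι → k}
    (hy : LinearIndependent k fun i => KaehlerDifferential.D L' k (y i)) :
    LinearIndependent k fun i => KaehlerDifferential.D L k (y i) := by
  refine LinearIndependent.of_comp (mapLe h) ?_
  convert hy using 1
  funext i
  exact mapLe_D h (y i)

theorem exists_linearIndependent_stage {ι : Type v} [Preorder ι] [IsDirected ι (fun a b => a ≤ b)] [Nonempty ι]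
    (n : ℕ) : ∀ (L₀ : Subfield k) (Lf : ι → Subfield k), Antitone Lf → (∀ x : k, x ^ p ∈ L₀) →
      (⨅ α, Lf α) = L₀ → ∀ y : Fin n → k,
      LinearIndependent k (fun i => KaehlerDifferential.D L₀ k (y i)) →
      ∃ α, LinearIndependent k fun i => KaehlerDifferential.D (Lf α) k (y i) := by
  induction n with
  | zero => exact fun _ _ _ _ _ _ _ => ⟨Classical.arbitrary ι, linearIndependent_empty_type⟩
  | succ n ih =>
    intro L₀ Lf hanti hp hint y hy
    have hpα : ∀ α, ∀ x : k, x ^ p ∈ Lf α := fun α x =>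
      Subfield.mem_iInf.mp (hint.symm ▸ hp x : x ^ p ∈ ⨅ α, Lf α) α
    have hy0 : y 0 ∉ L₀ := fun h => hy.ne_zero 0 ((KaehlerDifferential.D L₀ k).map_algebraMap ⟨y 0, h⟩)
    obtain ⟨α₁, hα₁⟩ : ∃ α, y 0 ∉ Lf α := by
      by_contra hall
      push Not at hall
      exact hy0 (hint ▸ Subfield.mem_iInf.mpr hall)
    have hle : ∀ α, L₀ ≤ Lf α := fun α => hint ▸ iInf_le Lf α
    have hM : (⨅ α, adj (Lf α) (y 0)) = adj L₀ (y 0) := by
      refine le_antisymm (fun z hz => ?_) (le_iInf fun α => adj_mono (hle α) _)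
      rw [Subfield.mem_iInf] at hz
      obtain ⟨c, hc, hcz⟩ := exists_coeff p (Lf α₁) (hpα α₁) (hz α₁)
      have hc0 : ∀ j < p, c j ∈ L₀ := fun j hj => by
        rw [← hint, Subfield.mem_iInf]
        intro γ
        obtain ⟨β, hβ1, hβ2⟩ := directed_of (fun a b : ι => a ≤ b) α₁ γ
        obtain ⟨c', hc', hcz'⟩ := exists_coeff p (Lf β) (hpα β) (hz β)
        rw [coeff_unique p (Lf α₁) (hpα α₁) hα₁ c c' hc (fun i => hanti hβ1 (hc' i)) (hcz.trans hcz'.symm) hj]
        exact hanti hβ2 (hc' j)
      rw [← hcz]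
      exact sum_mem fun j hj =>
        mul_mem (le_adj L₀ _ (hc0 j (Finset.mem_range.mp hj))) (pow_mem (self_mem_adj L₀ _) j)
    have htail : LinearIndependent k fun i : Fin n => KaehlerDifferential.D (adj L₀ (y 0)) k (y i.succ) := by
      rw [Fintype.linearIndependent_iff]
      intro g hg i
      have hw : mapLe (le_adj L₀ (y 0)) (∑ j, g j • KaehlerDifferential.D L₀ k (y j.succ)) = 0 := by
        simpa only [map_sum, map_smul, mapLe_D] using hg
      obtain ⟨a, ha⟩ := Submodule.mem_span_singleton.mp (mem_span_of_mapLe_adj_eq_zero p L₀ hp (y 0) hw)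
      have h0 : ∑ j : Fin (n + 1), (Fin.cons (-a) g : Fin (n + 1) → k) j • KaehlerDifferential.D L₀ k (y j) = 0 := by
        rw [Fin.sum_univ_succ]
        simp only [Fin.cons_zero, Fin.cons_succ, ← ha, neg_smul, neg_add_cancel]
      simpa using Fintype.linearIndependent_iff.mp hy _ h0 i.succ
    obtain ⟨α₂, hα₂⟩ := ih (adj L₀ (y 0)) (fun α => adj (Lf α) (y 0))
      (fun a b h => adj_mono (hanti h) _) (fun x => le_adj L₀ _ (hp x)) hM (fun i => y i.succ) htail
    obtain ⟨α, h1, h2⟩ := directed_of (fun a b : ι => a ≤ b) α₁ α₂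
    refine ⟨α, Fintype.linearIndependent_iff.mpr fun g hg => ?_⟩
    have hy0α : y 0 ∉ Lf α := fun h => hα₁ (hanti h1 h)
    rw [Fin.sum_univ_succ] at hg
    have h3 := congrArg (mapLe ((le_adj (Lf α) (y 0)).trans (adj_mono (hanti h2) (y 0)))) hg
    rw [map_add, map_sum, map_zero, map_smul, mapLe_D,
      show KaehlerDifferential.D (adj (Lf α₂) (y 0)) k (y 0) = 0 from
        (KaehlerDifferential.D (adj (Lf α₂) (y 0)) k).map_algebraMap ⟨y 0, self_mem_adj _ _⟩,
      smul_zero, zero_add] at h3
    simp only [map_smul, mapLe_D] at h3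
    have h4 := Fintype.linearIndependent_iff.mp hα₂ _ h3
    have h5 : g 0 • KaehlerDifferential.D (Lf α) k (y 0) = 0 := by simpa [h4] using hg
    exact Fin.cases ((smul_eq_zero.mp h5).resolve_right (D_ne_zero p _ (hpα α) hy0α)) h4

/-- A nonzero absolute differential stays nonzero at a late stage. -/
theorem exists_stage_ne_zero {ι : Type v} [Preorder ι] [IsDirected ι (fun a b => a ≤ b)] [Nonempty ι]
    (kα : ι → Subfield k) (hanti : Antitone kα)
    (hint : ⨅ α, (kα α ⊔ (frobenius k p).fieldRange) = (frobenius k p).fieldRange)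
    {w : Ω[k⁄ℤ]} (hw : w ≠ 0) :
    ∃ α₀, ∀ α, α₀ ≤ α → KaehlerDifferential.map ℤ (kα α) k k w ≠ 0 := by
  classical
  obtain ⟨b, hb, hspan, hli⟩ := exists_linearIndependent k (Set.range (KaehlerDifferential.D ℤ k))
  have hwb : w ∈ Submodule.span k (Set.range ((↑) : b → Ω[k⁄ℤ])) := by
    rw [Subtype.range_coe, hspan, KaehlerDifferential.span_range_derivation]; trivial
  obtain ⟨c, hc⟩ := Finsupp.mem_span_range_iff_exists_finsupp.mp hwb
  choose y hy using fun i : {x // x ∈ c.support} => hb i.1.2
  let e := (Fintype.equivFin {x // x ∈ c.support}).symm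
  let P := (frobenius k p).fieldRange
  have hP : ∀ x : k, x ^ p ∈ P := fun x => ⟨x, rfl⟩
  let DP : Derivation P k Ω[k⁄ℤ] :=
    { toFun := KaehlerDifferential.D ℤ k
      map_add' := map_add _
      map_smul' := fun r x => by
        obtain ⟨a, ha⟩ := r.2
        show KaehlerDifferential.D ℤ k ((r : k) * x) = (r : k) • KaehlerDifferential.D ℤ k x
        rw [Derivation.leibniz, show KaehlerDifferential.D ℤ k (r : k) = 0 by
          rw [← ha, frobenius_def, Derivation.leibniz_pow, ← Nat.cast_smul_eq_nsmul k, CharP.cast_eq_zero, zero_smul],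
          smul_zero, add_zero]
      map_one_eq_zero' := (KaehlerDifferential.D ℤ k).map_one_eq_zero
      leibniz' := (KaehlerDifferential.D ℤ k).leibniz }
  have hliP : LinearIndependent k fun i => KaehlerDifferential.D P k (y (e i)) := by
    refine LinearIndependent.of_comp DP.liftKaehlerDifferential ?_
    have h : LinearIndependent k fun i => ((e i).1 : Ω[k⁄ℤ]) :=
      hli.comp (fun i => (e i).1) (Subtype.val_injective.comp e.injective)
    convert h using 1
    funext i
    exact (Derivation.liftKaehlerDifferential_comp_D DP _).trans (hy (e i))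
  obtain ⟨α₀, hα₀⟩ := exists_linearIndependent_stage p _ P (fun α => kα α ⊔ P)
    (fun a b h => sup_le_sup_right (hanti h) P) hP hint (fun i => y (e i)) hliP
  refine ⟨α₀, fun α hα hzero => hw ?_⟩
  have hliα : LinearIndependent k fun i => KaehlerDifferential.D (kα α) k (y (e i)) :=
    linearIndependent_of_le ((hanti hα).trans (le_sup_left : kα α₀ ≤ kα α₀ ⊔ P)) hα₀
  rw [← hc, Finsupp.sum, ← Finset.sum_coe_sort, ← e.sum_comp] at hzero ⊢
  simp only [map_sum, map_smul] at hzero
  have hz : ∑ i, c (e i).1 • KaehlerDifferential.D (kα α) k (y (e i)) = 0 := by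
    refine Eq.trans (Finset.sum_congr rfl fun i _ => ?_) hzero
    rw [← hy (e i), KaehlerDifferential.map_D]
    rfl
  refine Finset.sum_eq_zero fun i _ => ?_
  rw [Fintype.linearIndependent_iff.mp hliα _ hz i, zero_smul]

theorem tensor_eq_zero_of_stages {ι : Type v} [Preorder ι] [IsDirected ι (fun a b => a ≤ b)] [Nonempty ι]
    (kα : ι → Subfield k) (hanti : Antitone kα)
    (hint : ⨅ α, (kα α ⊔ (frobenius k p).fieldRange) = (frobenius k p).fieldRange)
    {K : Type u} [AddCommGroup K] [Module k K] (x : K ⊗[k] Ω[k⁄ℤ]) (α₀ : ι)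
    (hx : ∀ α, α₀ ≤ α → (KaehlerDifferential.map ℤ (kα α) k k).lTensor K x = 0) : x = 0 := by
  classical
  let b := Module.Free.chooseBasis k K
  let E := TensorProduct.equivFinsuppOfBasisLeft (N := Ω[k⁄ℤ]) b
  refine E.injective ?_
  rw [map_zero]
  ext i
  rw [Finsupp.zero_apply]
  by_contra hne
  obtain ⟨α₁, hα₁⟩ := exists_stage_ne_zero p kα hanti hint hne
  obtain ⟨α, h0, h1⟩ := directed_of (fun a b : ι => a ≤ b) α₀ α₁
  have hnat : ∀ z, TensorProduct.equivFinsuppOfBasisLeft b ((KaehlerDifferential.map ℤ (kα α) k k).lTensor K z) i =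
      KaehlerDifferential.map ℤ (kα α) k k (E z i) := by
    intro z
    induction z using TensorProduct.induction_on with
    | zero => simp
    | tmul m n => simp [E, TensorProduct.equivFinsuppOfBasisLeft_apply_tmul_apply]
    | add a c ha hc => simp only [map_add, Finsupp.add_apply, ha, hc]
  refine hα₁ α h1 ?_
  rw [← hnat, hx α h0, map_zero, Finsupp.zero_apply]

end Groth.Agent.KaehlerSubfield
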