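/-
Basic properties of adic formal smoothness (`EGA41.IsFormallySmoothAdic`).
-/
import Groth.Prelude.Def_EGA41
import Groth.Prelude.Def_CAlgX
import Mathlib.RingTheory.Ideal.Quotient.Nilpotent
import Mathlib.RingTheory.TensorProduct.Maps

universe u

open TensorProduct

namespace Groth.Agent.AdicSmooth

section

variable {A B C : Type u} [CommRing A] [CommRing B] [Algebra A B] [CommRing C] [Algebra A C]

/-- A lift of a continuous map along a nilpotent ideal is continuous. -/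
theorem continuous_lift (𝔟 : Ideal B) (J : Ideal C) (hJ : IsNilpotent J) (u : B →ₐ[A] C ⧸ J)
    (hu : ∃ k : ℕ, ∀ x ∈ 𝔟 ^ k, u x = 0) (v : B →ₐ[A] C)
    (hv : (Ideal.Quotient.mkₐ A J).comp v = u) : ∃ k : ℕ, ∀ x ∈ 𝔟 ^ k, v x = 0 := by
  obtain ⟨n, hn⟩ := hJ
  obtain ⟨k, hk⟩ := hu
  refine ⟨k * n, fun x hx => ?_⟩
  have h1 : (𝔟 ^ k).map v.toRingHom ≤ J := by
    rw [Ideal.map_le_iff_le_comap]
    intro y hy
    rw [Ideal.mem_comap, ← Ideal.Quotient.eq_zero_iff_mem]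
    exact (AlgHom.congr_fun hv y).trans (hk y hy)
  have h2 : (𝔟 ^ (k * n)).map v.toRingHom ≤ J ^ n := by
    rw [pow_mul, Ideal.map_pow]
    exact Ideal.pow_right_mono h1 n
  rw [hn] at h2
  simpa using h2 (Ideal.mem_map_of_mem _ hx)

/-- Square-zero lifting implies lifting along nilpotent ideals. -/
theorem exists_lift_of_isAdicFormallySmooth {𝔟 : Ideal B} (h : CAlgX.IsAdicFormallySmooth A B 𝔟)
    (J : Ideal C) (hJ : IsNilpotent J) (u : B →ₐ[A] C ⧸ J)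
    (hu : ∃ k : ℕ, ∀ x ∈ 𝔟 ^ k, u x = 0) :
    ∃ v : B →ₐ[A] C, (Ideal.Quotient.mkₐ A J).comp v = u := by
  obtain ⟨n, hn⟩ := hJ
  replace hn : J ^ 2 ^ n = ⊥ := le_bot_iff.1 ((Ideal.pow_le_pow_right n.lt_two_pow_self.le).trans hn.le)
  induction n generalizing J with
  | zero =>
    obtain rfl : J = ⊥ := by simpa using hn
    exact h C ⊥ (by rw [← Ideal.zero_eq_bot, zero_pow two_ne_zero]) u hu
  | succ n ih =>
    let K := J.map (Ideal.Quotient.mk (J ^ 2))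
    have hK : K ^ 2 = ⊥ := by rw [← Ideal.map_pow, Ideal.map_quotient_self]
    let e : ((C ⧸ J ^ 2) ⧸ K) ≃ₐ[A] C ⧸ J :=
      { (DoubleQuot.quotQuotEquivQuotSup (J ^ 2) J).trans
          (Ideal.quotEquivOfEq (sup_eq_right.mpr (Ideal.pow_le_self two_ne_zero))) with
        commutes' := fun x => rfl }
    obtain ⟨k, hk⟩ := hu
    have hu' : ∃ k : ℕ, ∀ x ∈ 𝔟 ^ k, e.symm.toAlgHom.comp u x = 0 := ⟨k, fun x hx => by simp [hk x hx]⟩
    obtain ⟨g, hg⟩ := h (C ⧸ J ^ 2) K hK (e.symm.toAlgHom.comp u) hu'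
    have hgc := continuous_lift 𝔟 K ⟨2, hK⟩ _ hu' g hg
    obtain ⟨v, hv⟩ := ih (J ^ 2) g hgc (by rw [← pow_mul, ← pow_succ']; exact hn)
    refine ⟨v, AlgHom.ext fun x => ?_⟩
    have h1 := congr(e ($hg x))
    rw [← hv] at h1
    simp only [AlgHom.comp_apply, AlgEquiv.coe_toAlgHom, AlgEquiv.apply_symm_apply] at h1
    exact h1

theorem isFormallySmoothAdic_bot_iff (𝔟 : Ideal B) :
    EGA41.IsFormallySmoothAdic A ⊥ B 𝔟 ↔ CAlgX.IsAdicFormallySmooth A B 𝔟 := by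
  refine ⟨fun h S _ _ I hI u hu => h S I ⟨2, hI⟩ ⟨1, by simp⟩ u hu, fun h S _ _ I hI _ u hu => ?_⟩
  exact exists_lift_of_isAdicFormallySmooth h I hI u hu

end

section Ops

variable {A B C : Type u} [CommRing A] [CommRing B] [Algebra A B] [CommRing C] [Algebra B C]
  [Algebra A C] [IsScalarTower A B C]

theorem trans {𝔞 : Ideal A} {𝔟 : Ideal B} {𝔠 : Ideal C}
    (hBC : ∃ k : ℕ, (𝔟 ^ k).map (algebraMap B C) ≤ 𝔠)
    (hB : EGA41.IsFormallySmoothAdic A 𝔞 B 𝔟) (hC : EGA41.IsFormallySmoothAdic B 𝔟 C 𝔠) :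
    EGA41.IsFormallySmoothAdic A 𝔞 C 𝔠 := by
  intro D _ _ J hJ hD u hu
  obtain ⟨m, hm⟩ := hBC
  obtain ⟨k, hk⟩ := hu
  let u₀ : B →ₐ[A] D ⧸ J := u.comp (IsScalarTower.toAlgHom A B C)
  have hu₀ : ∃ j : ℕ, ∀ x ∈ 𝔟 ^ j, u₀ x = 0 := by
    refine ⟨m * k, fun x hx => hk _ ?_⟩
    have : (𝔟 ^ (m * k)).map (algebraMap B C) ≤ 𝔠 ^ k := by
      rw [pow_mul, Ideal.map_pow]
      exact Ideal.pow_right_mono hm k
    exact this (Ideal.mem_map_of_mem _ hx)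
  obtain ⟨v, hv⟩ := hB D J hJ hD u₀ hu₀
  let : Algebra B D := v.toRingHom.toAlgebra
  have : IsScalarTower A B D := IsScalarTower.of_algebraMap_eq fun a => (v.commutes a).symm
  obtain ⟨j, hj⟩ := continuous_lift 𝔟 J hJ u₀ hu₀ v hv
  let uB : C →ₐ[B] D ⧸ J := { u.toRingHom with commutes' := fun b => (AlgHom.congr_fun hv b).symm }
  obtain ⟨w, hw⟩ := hC D J hJ
    ⟨j, le_bot_iff.1 (Ideal.map_le_iff_le_comap.2 fun x hx => Ideal.mem_bot.2 (hj x hx))⟩ uB ⟨k, hk⟩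
  exact ⟨w.restrictScalars A, AlgHom.ext fun c => AlgHom.congr_fun hw c⟩

end Ops

end Groth.Agent.AdicSmooth
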