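import Mathlib.RingTheory.Smooth.Basic
import Mathlib.RingTheory.AdicCompletion.RingHom
import Mathlib.RingTheory.Ideal.Quotient.Operations

/-!
# Lifting formally smooth algebras into complete rings
-/

universe u

namespace Groth.Agent.AdicSmooth

variable {k K A : Type u} [CommRing k] [CommRing K] [CommRing A] [Algebra k K] [Algebra k A]

theorem exists_step [Algebra.FormallySmooth k K] {I J : Ideal A} (hJI : J ≤ I) (hIJ : I ^ 2 ≤ J)
    (g : K →ₐ[k] A ⧸ I) : ∃ g' : K →ₐ[k] A ⧸ J, ∀ x, Ideal.Quotient.factor hJI (g' x) = g x := by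
  let π : A ⧸ J →ₐ[k] A ⧸ I := Ideal.Quotient.factorₐ k hJI
  have hπ : ∀ b, π (Ideal.Quotient.mk J b) = Ideal.Quotient.mk I b := fun _ => rfl
  have hπs : Function.Surjective π := fun y => by
    obtain ⟨b, rfl⟩ := Ideal.Quotient.mk_surjective y
    exact ⟨_, hπ b⟩
  have hker : RingHom.ker π.toRingHom ≤ I.map (Ideal.Quotient.mk J) := fun y hy => by
    obtain ⟨b, rfl⟩ := Ideal.Quotient.mk_surjective y
    exact Ideal.mem_map_of_mem _ (Ideal.Quotient.eq_zero_iff_mem.mp ((hπ b).symm.trans hy))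
  have hnil : IsNilpotent (RingHom.ker π.toRingHom) := ⟨2, le_bot_iff.mp
    ((Ideal.pow_right_mono hker 2).trans (by
      rw [← Ideal.map_pow]
      exact (Ideal.map_mono hIJ).trans (Ideal.map_quotient_self J).le))⟩
  exact ⟨Algebra.FormallySmooth.liftOfSurjective g π hπs hnil,
    Algebra.FormallySmooth.liftOfSurjective_apply g π hπs hnil⟩

theorem exists_sequence [Algebra.FormallySmooth k K] (I : Ideal A) (u : K →ₐ[k] A ⧸ I) :
    ∃ g : ∀ n : ℕ, K →ₐ[k] A ⧸ I ^ (n + 1),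
      (∀ x, Ideal.Quotient.factor (Ideal.pow_le_self (Nat.succ_ne_zero 0)) (g 0 x) = u x) ∧
      ∀ n x, Ideal.Quotient.factor (Ideal.pow_le_pow_right (Nat.le_add_right (n + 1) 1)) (g (n + 1) x) = g n x := by
  have hstep : ∀ n (g : K →ₐ[k] A ⧸ I ^ (n + 1)), ∃ g' : K →ₐ[k] A ⧸ I ^ (n + 1 + 1),
      ∀ x, Ideal.Quotient.factor (Ideal.pow_le_pow_right (Nat.le_add_right (n + 1) 1)) (g' x) = g x := fun n g =>
    exists_step (Ideal.pow_le_pow_right (Nat.le_add_right (n + 1) 1))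
      (by rw [← pow_mul]; exact Ideal.pow_le_pow_right (by omega)) g
  choose next hnext using hstep
  have key : ∀ (J : Ideal A) (h : J ≤ I), I ^ 2 ≤ J →
      ∃ g0 : K →ₐ[k] A ⧸ J, ∀ x, Ideal.Quotient.factor h (g0 x) = u x := fun J h h' => exists_step h h' u
  obtain ⟨g0, hg0⟩ := key (I ^ (0 + 1)) (Ideal.pow_le_self (Nat.succ_ne_zero 0))
    (Ideal.pow_le_pow_right (show 0 + 1 ≤ 2 by omega))
  exact ⟨fun n => Nat.rec g0 next n, hg0, fun n x => hnext n _ x⟩

/-- A formally smooth algebra lifts along `A → A/I` when `A` is `I`-adically complete. -/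
theorem exists_lift_of_isAdicComplete [Algebra.FormallySmooth k K] (I : Ideal A) [IsAdicComplete I A]
    (u : K →ₐ[k] A ⧸ I) : ∃ σ : K →ₐ[k] A, ∀ x, Ideal.Quotient.mk I (σ x) = u x := by
  obtain ⟨g, hg0, hg⟩ := exists_sequence I u
  have ha : StrictMono fun n : ℕ => n + 1 := fun a b h => Nat.succ_lt_succ h
  let σ := IsAdicComplete.StrictMono.liftRingHom I ha (fun n => (g n).toRingHom)
    (fun {m} => RingHom.ext fun x => hg m x)
  have hσ : ∀ n x, Ideal.Quotient.mk (I ^ (n + 1)) (σ x) = g n x := fun n x =>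
    IsAdicComplete.StrictMono.mk_liftRingHom I ha _ _ x
  refine ⟨{ σ with commutes' := fun r => ?_ }, fun x => ?_⟩
  · refine IsHausdorff.StrictMono.funext' I ha (f := fun _ : Unit => σ (algebraMap k K r))
      (g := fun _ : Unit => algebraMap k A r) (fun n _ => ?_) |> congrFun <| ()
    rw [hσ, AlgHom.commutes, Ideal.Quotient.mk_algebraMap]
  · show Ideal.Quotient.mk I (σ x) = u x
    rw [← hg0, ← hσ 0 x, Ideal.Quotient.factor_mk]

end Groth.Agent.AdicSmooth
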