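import Mathlib.RingTheory.Smooth.Field
import Mathlib.RingTheory.Smooth.Basic
import Mathlib.Algebra.MvPolynomial.PDeriv
import Mathlib.RingTheory.Kaehler.Basic
import Mathlib.FieldTheory.IntermediateField.Adjoin.Basic
import Mathlib.Algebra.MvPolynomial.Rename

/-!
# Extensions of perfect fields are formally smooth
-/

universe u
open scoped TensorProduct

namespace Groth.Agent.FieldFS

variable (F L : Type u) [Field F] [Field L] [Algebra F L]

theorem taylor_sqZero {F Q : Type u} [CommRing F] [CommRing Q] [Algebra F Q] {σ : Type u} [Fintype σ]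
    (Φ₁ Φ₂ : MvPolynomial σ F →ₐ[F] Q) (N : Ideal Q) (hN : ∀ a ∈ N, ∀ b ∈ N, a * b = 0)
    (h : ∀ y, Φ₁ (MvPolynomial.X y) - Φ₂ (MvPolynomial.X y) ∈ N) (g : MvPolynomial σ F) :
    Φ₁ g - Φ₂ g = ∑ y, Φ₂ (MvPolynomial.pderiv y g) * (Φ₁ (MvPolynomial.X y) - Φ₂ (MvPolynomial.X y)) := by
  classical
  induction g using MvPolynomial.induction_on with
  | C r =>
    simp only [MvPolynomial.pderiv_C, map_zero, zero_mul, Finset.sum_const_zero]
    rw [← MvPolynomial.algebraMap_eq, AlgHom.commutes, AlgHom.commutes, sub_self]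
  | add p q hp hq =>
    simp only [map_add, add_mul, Finset.sum_add_distrib, ← hp, ← hq]
    ring
  | mul_X p i hp =>
    have hE : Φ₁ p - Φ₂ p ∈ N := by
      rw [hp]
      exact sum_mem fun y _ => Ideal.mul_mem_left _ _ (h y)
    have hz := hN _ hE _ (h i)
    have h2 : ∑ y, Φ₂ (MvPolynomial.pderiv y (p * MvPolynomial.X i)) *
        (Φ₁ (MvPolynomial.X y) - Φ₂ (MvPolynomial.X y)) =
        Φ₂ p * (Φ₁ (MvPolynomial.X i) - Φ₂ (MvPolynomial.X i)) +
          Φ₂ (MvPolynomial.X i) * (Φ₁ p - Φ₂ p) := by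
      rw [hp, Finset.mul_sum]
      simp only [Derivation.leibniz, smul_eq_mul, map_add, map_mul, add_mul, Finset.sum_add_distrib]
      congr 1
      · rw [Finset.sum_eq_single i]
        · simp
        · intro y _ hy; simp [MvPolynomial.pderiv_X_of_ne (Ne.symm hy)]
        · simp
      · exact Finset.sum_congr rfl fun y _ => by ring
    rw [h2, map_mul, map_mul]
    linear_combination hz

/-- A field extension is formally smooth when all its finitely generated subextensions are. -/
theorem formallySmooth_of_forall_essFiniteType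
    (hall : ∀ E : IntermediateField F L, Algebra.EssFiniteType F E → Algebra.FormallySmooth F E) :
    Algebra.FormallySmooth F L := by
  classical
  letI : Algebra (MvPolynomial L F) L := (MvPolynomial.aeval (id : L → L)).toRingHom.toAlgebra
  haveI : IsScalarTower F (MvPolynomial L F) L :=
    IsScalarTower.of_algebraMap_eq fun r => ((MvPolynomial.aeval (id : L → L)).commutes r).symm
  have hval : ∀ g, algebraMap (MvPolynomial L F) L g = MvPolynomial.aeval (id : L → L) g := fun _ => rfl
  have hsurj : Function.Surjective (algebraMap (MvPolynomial L F) L) := fun x =>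
    ⟨MvPolynomial.X x, by rw [hval, MvPolynomial.aeval_X]; rfl⟩
  suffices hinj : Function.Injective (KaehlerDifferential.kerCotangentToTensor F (MvPolynomial L F) L) from
    (Algebra.formallySmooth_iff F L).mpr ⟨inferInstance,
      (Algebra.FormallySmooth.kerCotangentToTensor_injective_iff hsurj).mp hinj⟩
  refine (injective_iff_map_eq_zero _).mpr fun c hc => ?_
  obtain ⟨⟨f, hf⟩, rfl⟩ := Ideal.toCotangent_surjective _ c
  rw [KaehlerDifferential.kerCotangentToTensor_toCotangent] at hc
  have hpd : ∀ y, algebraMap (MvPolynomial L F) L (MvPolynomial.pderiv y f) = 0 := fun y => by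
    let d : Derivation F (MvPolynomial L F) L :=
      (Algebra.linearMap (MvPolynomial L F) L).compDer (MvPolynomial.pderiv y)
    have := congrArg (d.liftKaehlerDifferential.liftBaseChange L) hc
    rw [LinearMap.liftBaseChange_tmul, map_zero, Derivation.liftKaehlerDifferential_comp_D, one_smul] at this
    exact this
  obtain ⟨S, g, rfl⟩ := MvPolynomial.exists_finset_rename f
  let v : {x // x ∈ S} → L := fun y => y.1
  let K₀ := IntermediateField.adjoin F (Set.range v)
  haveI : Algebra.EssFiniteType F K₀ :=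
    IntermediateField.essFiniteType_iff.mpr (IntermediateField.fg_adjoin_of_finite (Set.finite_range v))
  haveI : Algebra.FormallySmooth F K₀ := hall K₀ inferInstance
  let I := RingHom.ker (algebraMap (MvPolynomial L F) L)
  let π : MvPolynomial L F ⧸ I ^ 2 →ₐ[F] L :=
    Ideal.Quotient.liftₐ (I ^ 2) (IsScalarTower.toAlgHom F (MvPolynomial L F) L)
      fun x hx => Ideal.pow_le_self two_ne_zero hx
  have hπ : ∀ x, π (Ideal.Quotient.mk _ x) = algebraMap (MvPolynomial L F) L x := fun _ => rfl
  have hπs : Function.Surjective π := fun x => by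
    obtain ⟨p, hp⟩ := hsurj x
    exact ⟨_, (hπ p).trans hp⟩
  let N : Ideal (MvPolynomial L F ⧸ I ^ 2) := I.map (Ideal.Quotient.mk _)
  have hker : RingHom.ker π.toRingHom ≤ N := fun y hy => by
    obtain ⟨b, rfl⟩ := Ideal.Quotient.mk_surjective y
    exact Ideal.mem_map_of_mem _ ((hπ b).symm.trans hy)
  have hN2 : N ^ 2 = ⊥ := by rw [← Ideal.map_pow, Ideal.map_quotient_self]
  have hnil : IsNilpotent (RingHom.ker π.toRingHom) :=
    ⟨2, le_bot_iff.mp ((Ideal.pow_right_mono hker 2).trans hN2.le)⟩
  let σ : K₀ →ₐ[F] MvPolynomial L F ⧸ I ^ 2 :=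
    Algebra.FormallySmooth.liftOfSurjective K₀.val π hπs hnil
  have hσ : ∀ z, π (σ z) = (z : L) :=
    Algebra.FormallySmooth.liftOfSurjective_apply K₀.val π hπs hnil
  let val : MvPolynomial {x // x ∈ S} F →ₐ[F] K₀ := MvPolynomial.aeval fun y =>
    ⟨v y, IntermediateField.subset_adjoin F _ ⟨y, rfl⟩⟩
  have hvalg : ∀ p, ((val p : K₀) : L) = algebraMap (MvPolynomial L F) L (MvPolynomial.rename Subtype.val p) := by
    intro p
    refine AlgHom.congr_fun (φ₁ := K₀.val.comp val)
      (φ₂ := (IsScalarTower.toAlgHom F (MvPolynomial L F) L).comp (MvPolynomial.rename Subtype.val))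
      (MvPolynomial.algHom_ext fun y => ?_) p
    simp [val, v, hval]
  let Φ₁ : MvPolynomial {x // x ∈ S} F →ₐ[F] MvPolynomial L F ⧸ I ^ 2 :=
    (Ideal.Quotient.mkₐ F _).comp (MvPolynomial.rename Subtype.val)
  let Φ₂ : MvPolynomial {x // x ∈ S} F →ₐ[F] MvPolynomial L F ⧸ I ^ 2 := σ.comp val
  have hdiff : ∀ y, Φ₁ (MvPolynomial.X y) - Φ₂ (MvPolynomial.X y) ∈ N := fun y => hker (by
    show π (Φ₁ (MvPolynomial.X y) - σ (val (MvPolynomial.X y))) = 0
    rw [map_sub, hσ, hvalg]
    exact sub_self _)
  have hNN : ∀ a ∈ N, ∀ b ∈ N, a * b = 0 := fun a ha b hb => by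
    rw [← Submodule.mem_bot (MvPolynomial L F ⧸ I ^ 2), ← hN2, pow_two N]
    exact Ideal.mul_mem_mul ha hb
  have h2 : ∀ p, algebraMap (MvPolynomial L F) L (MvPolynomial.rename Subtype.val p) = 0 → Φ₂ p = 0 := fun p hp => by
    show σ (val p) = 0
    rw [show val p = 0 from Subtype.ext ((hvalg p).trans hp), map_zero]
  have key := taylor_sqZero Φ₁ Φ₂ N hNN hdiff g
  rw [h2 g hf, sub_zero, Finset.sum_eq_zero fun y _ => by
    rw [h2 _ (by rw [← MvPolynomial.pderiv_rename Subtype.val_injective]; exact hpd _), zero_mul]] at key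
  rw [Ideal.toCotangent_eq_zero]
  exact Ideal.Quotient.eq_zero_iff_mem.mp key

/-- Every extension of a perfect field is formally smooth. -/
theorem formallySmooth_of_perfectField [PerfectField F] : Algebra.FormallySmooth F L :=
  formallySmooth_of_forall_essFiniteType F L fun E hE => by
    haveI := hE
    infer_instance

end Groth.Agent.FieldFS
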