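/-
Cohen rings lift continuously along square-zero extensions.
-/
import Groth.Agent.Lib.Cohen.Lift
import Groth.Prelude.Def_CAlgX
import Mathlib

universe u

namespace Groth.Agent.AdicSmooth

open IsLocalRing

/-- The powers of a nilpotent ideal form a complete filtration. -/
noncomputable def nilFilt {C : Type u} [CommRing C] (a : Ideal C) {N : ℕ} (h : a ^ N = ⊥) : Cohen.Filt C where
  I n := a ^ n
  zero := by rw [pow_zero, Ideal.one_eq_top]
  anti n := Ideal.pow_le_pow_right (Nat.le_succ n)
  mul n := by rw [pow_one, ← pow_succ']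
  haus x hx := by
    have := hx N
    rwa [h, Ideal.mem_bot] at this
  complete f hf := by
    have hmono : ∀ n d, f (n + d) - f n ∈ a ^ n := fun n d => by
      induction d with
      | zero => simp
      | succ d ih =>
        rw [show f (n + (d + 1)) - f n = (f (n + d + 1) - f (n + d)) + (f (n + d) - f n) by ring_nf]
        exact add_mem (Ideal.pow_le_pow_right (Nat.le_add_right n d) (hf (n + d))) ih
    refine ⟨f N, fun n => ?_⟩
    rcases le_total n N with hn | hn
    · obtain ⟨d, rfl⟩ := Nat.exists_eq_add_of_le hn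
      exact hmono n d
    · obtain ⟨d, rfl⟩ := Nat.exists_eq_add_of_le hn
      have h1 := hmono N d
      rw [h, Ideal.mem_bot, sub_eq_zero] at h1
      rw [h1, sub_self]
      exact Submodule.zero_mem _

/-- A Cohen ring is formally smooth over the integers for its adic topology. -/
theorem exists_lift_cohen {W : Type u} [CommRing W] [IsLocalRing W] (hW : CAlg.IsCohenRing W)
    {C : Type u} [CommRing C] {J : Ideal C} (hJ : J ^ 2 = ⊥) (u : W →+* C ⧸ J) {k : ℕ}
    (hk : ∀ x ∈ maximalIdeal W ^ k, u x = 0) :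
    ∃ v : W →+* C, (Ideal.Quotient.mk J).comp v = u := by
  obtain ⟨hdom, hdvr, hcpl, p, hp, hmax⟩ := hW
  let a : Ideal C := ((maximalIdeal W).map u).comap (Ideal.Quotient.mk J)
  have hak : a ^ k ≤ J := by
    have h1 : (a ^ k).map (Ideal.Quotient.mk J) = ⊥ := by
      rw [Ideal.map_pow, Ideal.map_comap_of_surjective _ Ideal.Quotient.mk_surjective, ← Ideal.map_pow]
      exact eq_bot_iff.2 (Ideal.map_le_iff_le_comap.2 fun x hx => Ideal.mem_bot.2 (hk x hx))
    intro x hx
    have h2 := Ideal.mem_map_of_mem (Ideal.Quotient.mk J) hx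
    rw [h1, Ideal.mem_bot] at h2
    exact Ideal.Quotient.eq_zero_iff_mem.1 h2
  have ha : a ^ (k * 2) = ⊥ := by
    rw [pow_mul, eq_bot_iff, ← hJ]
    exact Ideal.pow_right_mono hak 2
  let F := nilFilt a ha
  let Q : Subring (C × W) := RingHom.eqLocus ((Ideal.Quotient.mk J).comp (RingHom.fst C W))
    (u.comp (RingHom.snd C W))
  let G := F.prod (Cohen.Filt.ofAdic (maximalIdeal W))
  let H := G.restrict Q fun x hx => by
    obtain ⟨y, hy, h1, h2⟩ := hx (k * 2)
    have e1 : x.1 = y.1 := sub_eq_zero.1 (by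
      have h3 : x.1 - y.1 ∈ a ^ (k * 2) := h1
      rwa [ha, Ideal.mem_bot] at h3)
    have h4 : x.2 - y.2 ∈ maximalIdeal W ^ (k * 2) := h2
    have e2 : u x.2 = u y.2 := sub_eq_zero.1 (by
      rw [← map_sub]
      exact hk _ (Ideal.pow_le_pow_right (by omega) h4))
    show Ideal.Quotient.mk J x.1 = u x.2
    rw [e1, e2]
    exact hy
  let π : Q →+* ResidueField W := (residue W).comp ((RingHom.snd C W).comp Q.subtype)
  have hπ : Function.Surjective π := fun c => by
    obtain ⟨w, rfl⟩ := residue_surjective c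
    obtain ⟨b, hb⟩ := Ideal.Quotient.mk_surjective (u w)
    exact ⟨⟨(b, w), hb⟩, rfl⟩
  have hker : H.I 1 = RingHom.ker π := by
    ext x
    constructor
    · intro h
      have h2 : x.1.2 ∈ maximalIdeal W ^ 1 := h.2
      rw [pow_one] at h2
      exact (residue_eq_zero_iff _).2 h2
    · intro h
      have h2 : x.1.2 ∈ maximalIdeal W := (residue_eq_zero_iff _).1 h
      refine ⟨?_, ?_⟩
      · show x.1.1 ∈ a ^ 1
        rw [pow_one, Ideal.mem_comap, show Ideal.Quotient.mk J x.1.1 = u x.1.2 from x.2]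
        exact Ideal.mem_map_of_mem u h2
      · show x.1.2 ∈ maximalIdeal W ^ 1
        rwa [pow_one]
  obtain ⟨g, hg⟩ := Cohen.exists_lift (Or.inr ⟨hdom, hdvr, hcpl, p, hp, hmax⟩) H π hπ hker
  let g₂ : W →+* W := ((RingHom.snd C W).comp Q.subtype).comp g
  have hb : Function.Bijective g₂ := Cohen.bijective_of_isCohen
    (Or.inr ⟨hdom, hdvr, hcpl, p, hp, hmax⟩) (Or.inr ⟨hdom, hdvr, hcpl, p, hp, hmax⟩) g₂
    (RingEquiv.refl _) hg
  let e := RingEquiv.ofBijective g₂ hb
  refine ⟨(((RingHom.fst C W).comp Q.subtype).comp g).comp e.symm.toRingHom, RingHom.ext fun w => ?_⟩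
  exact (g (e.symm w)).2.trans (congrArg u (e.apply_symm_apply w))

end Groth.Agent.AdicSmooth
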