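/-
Maps out of an adic completion which kill a power of the ideal.
-/
import Groth.Agent.Lib.AdicSmooth.Basic
import Mathlib.RingTheory.AdicCompletion.Algebra
import Mathlib.RingTheory.AdicCompletion.Completeness

universe u

namespace Groth.Agent.AdicSmooth

variable {R : Type u} [CommRing R] (I : Ideal R)

theorem mem_map_pow_of_evalₐ_eq_zero (hI : I.FG) {n : ℕ} {x : AdicCompletion I R}
    (hx : AdicCompletion.evalₐ I n x = 0) :
    x ∈ (I.map (algebraMap R (AdicCompletion I R))) ^ n := by
  have h1 : x ∈ (AdicCompletion.eval I R n).ker := by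
    rw [LinearMap.mem_ker]
    rw [← AdicCompletion.factor_evalₐ_eq_eval I x (by simp), hx, map_zero]
  rw [← AdicCompletion.pow_smul_top_eq_ker_eval hI, Ideal.smul_top_eq_map] at h1
  rw [← Ideal.map_pow]
  exact h1

theorem exists_sub_mem (hI : I.FG) (n : ℕ) (x : AdicCompletion I R) :
    ∃ r : R, x - algebraMap R _ r ∈ (I.map (algebraMap R (AdicCompletion I R))) ^ n := by
  obtain ⟨r, hr⟩ := Ideal.Quotient.mk_surjective (AdicCompletion.evalₐ I n x)
  refine ⟨r, mem_map_pow_of_evalₐ_eq_zero I hI ?_⟩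
  rw [map_sub, AlgHom.commutes, ← hr]
  exact sub_self _

/-- Extend a map killing a power of `I` to the completion. -/
theorem exists_extend {A : Type u} [CommRing A] (f : R →+* A) {N : ℕ} (hf : ∀ x ∈ I ^ N, f x = 0) :
    ∃ g : AdicCompletion I R →+* A, g.comp (algebraMap R _) = f ∧
      ∀ x ∈ (I.map (algebraMap R (AdicCompletion I R))) ^ N, g x = 0 := by
  let g := (Ideal.Quotient.lift (I ^ N) f hf).comp (AdicCompletion.evalₐ I N).toRingHom
  have hg : g.comp (algebraMap R _) = f := RingHom.ext fun r => by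
    show Ideal.Quotient.lift (I ^ N) f hf (AdicCompletion.evalₐ I N (algebraMap R _ r)) = f r
    rw [AlgHom.commutes]
    rfl
  refine ⟨g, hg, fun x hx => ?_⟩
  rw [← Ideal.map_pow] at hx
  refine (Ideal.map_le_iff_le_comap.2 (fun r hr => ?_) : _ ≤ RingHom.ker g) hx
  show g (algebraMap R _ r) = 0
  rw [← RingHom.comp_apply, hg]
  exact hf r hr

/-- Two maps killing a power of the completed ideal which agree on `R` are equal. -/
theorem ext_of_completion (hI : I.FG) {A : Type u} [CommRing A] {g₁ g₂ : AdicCompletion I R →+* A}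
    {N : ℕ} (h₁ : ∀ x ∈ (I.map (algebraMap R (AdicCompletion I R))) ^ N, g₁ x = 0)
    (h₂ : ∀ x ∈ (I.map (algebraMap R (AdicCompletion I R))) ^ N, g₂ x = 0)
    (h : g₁.comp (algebraMap R _) = g₂.comp (algebraMap R _)) : g₁ = g₂ := by
  refine RingHom.ext fun x => ?_
  obtain ⟨r, hr⟩ := exists_sub_mem I hI N x
  have e₁ := h₁ _ hr
  have e₂ := h₂ _ hr
  rw [map_sub, sub_eq_zero] at e₁ e₂
  rw [e₁, e₂]
  exact RingHom.congr_fun h r

end Groth.Agent.AdicSmooth
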