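import Groth.Agent.Lib.AdicSmooth.Basic
import Mathlib.RingTheory.Derivation.Basic
import Mathlib.Algebra.TrivSqZeroExt.Basic
import Mathlib.Algebra.TrivSqZeroExt.Ideal
import Mathlib.Algebra.Module.Torsion.Basic
import Mathlib.RingTheory.Ideal.Quotient.Operations

/-!
# Lifting along surjections and lifting derivations for adically formally smooth algebras
-/

universe u

namespace Groth.Agent.AdicSmooth

variable {A B : Type u} [CommRing A] [CommRing B] [Algebra A B] {𝔟 : Ideal B}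

/-- Lifting along a surjection with nilpotent kernel. -/
theorem exists_lift_of_surjective (h : CAlgX.IsAdicFormallySmooth A B 𝔟) {C D : Type u} [CommRing C]
    [CommRing D] [Algebra A C] [Algebra A D] (π : C →ₐ[A] D) (hπ : Function.Surjective π)
    (hnil : IsNilpotent (RingHom.ker π)) (u : B →ₐ[A] D) (hu : ∃ k : ℕ, ∀ x ∈ 𝔟 ^ k, u x = 0) :
    ∃ v : B →ₐ[A] C, π.comp v = u := by
  let e := Ideal.quotientKerAlgEquivOfSurjective (f := π) hπ
  obtain ⟨k, hk⟩ := hu
  obtain ⟨v, hv⟩ := exists_lift_of_isAdicFormallySmooth h (RingHom.ker π) hnil (e.symm.toAlgHom.comp u)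
    ⟨k, fun x hx => by simp [hk x hx]⟩
  refine ⟨v, AlgHom.ext fun b => ?_⟩
  have h1 := congrArg e (AlgHom.congr_fun hv b)
  simp only [AlgHom.comp_apply, AlgEquiv.coe_toAlgHom, AlgEquiv.apply_symm_apply] at h1
  exact h1

/-- A derivation whose module is killed by `𝔟 ^ k` vanishes on `𝔟 ^ (k + k)`. -/
theorem derivation_eq_zero_of_mem_pow {M : Type*} [AddCommGroup M] [Module B M] [Module A M]
    (k : ℕ) (hM : ∀ x ∈ 𝔟 ^ k, ∀ m : M, x • m = 0) (d : Derivation A B M) {x : B} (hx : x ∈ 𝔟 ^ (k + k)) :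
    d x = 0 := by
  rw [pow_add] at hx
  refine Submodule.mul_induction_on hx (fun a ha b hb => ?_) fun a b ha hb => by rw [map_add, ha, hb, add_zero]
  rw [Derivation.leibniz, hM a ha, hM b hb, add_zero]

/-- Adic formal smoothness: derivations into modules killed by a power of `𝔟` lift along surjections. -/
theorem derivation_lift (h : CAlgX.IsAdicFormallySmooth A B 𝔟) {M M' : Type u} [AddCommGroup M]
    [AddCommGroup M'] [Module B M] [Module B M'] [Module A M] [Module A M'] [IsScalarTower A B M]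
    [IsScalarTower A B M'] (k : ℕ) (hM : ∀ x ∈ 𝔟 ^ k, ∀ m : M, x • m = 0) (f : M →ₗ[B] M')
    (hf : Function.Surjective f) (d : Derivation A B M') :
    ∃ D : Derivation A B M, ∀ b, f (D b) = d b := by
  have hM' : ∀ x ∈ 𝔟 ^ k, ∀ m : M', x • m = 0 := fun x hx m => by
    obtain ⟨m, rfl⟩ := hf m
    rw [← map_smul, hM x hx, map_zero]
  have htM : Module.IsTorsionBySet B M (𝔟 ^ k : Ideal B) := fun m x => hM x.1 x.2 m
  have htM' : Module.IsTorsionBySet B M' (𝔟 ^ k : Ideal B) := fun m x => hM' x.1 x.2 m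
  letI : Module (B ⧸ 𝔟 ^ k) M := htM.module
  letI : Module (B ⧸ 𝔟 ^ k) M' := htM'.module
  letI : Module (B ⧸ 𝔟 ^ k)ᵐᵒᵖ M := Module.compHom M ((RingHom.id (B ⧸ 𝔟 ^ k)).fromOpposite mul_comm)
  haveI : IsCentralScalar (B ⧸ 𝔟 ^ k) M := ⟨fun _ _ => rfl⟩
  letI : Module (B ⧸ 𝔟 ^ k)ᵐᵒᵖ M' := Module.compHom M' ((RingHom.id (B ⧸ 𝔟 ^ k)).fromOpposite mul_comm)
  haveI : IsCentralScalar (B ⧸ 𝔟 ^ k) M' := ⟨fun _ _ => rfl⟩
  haveI : IsScalarTower A (B ⧸ 𝔟 ^ k) M := ⟨fun a c m => by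
    obtain ⟨b, rfl⟩ := Ideal.Quotient.mk_surjective c
    show Ideal.Quotient.mk (𝔟 ^ k) (a • b) • m = a • (Ideal.Quotient.mk (𝔟 ^ k) b • m)
    exact smul_assoc a b m⟩
  haveI : IsScalarTower A (B ⧸ 𝔟 ^ k) M' := ⟨fun a c m => by
    obtain ⟨b, rfl⟩ := Ideal.Quotient.mk_surjective c
    show Ideal.Quotient.mk (𝔟 ^ k) (a • b) • m = a • (Ideal.Quotient.mk (𝔟 ^ k) b • m)
    exact smul_assoc a b m⟩
  let fC : M →ₗ[B ⧸ 𝔟 ^ k] M' :=
    { f.toAddMonoidHom with
      map_smul' := fun c m => by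
        obtain ⟨b, rfl⟩ := Ideal.Quotient.mk_surjective c
        exact f.map_smul b m }
  let π : TrivSqZeroExt (B ⧸ 𝔟 ^ k) M →ₐ[A] TrivSqZeroExt (B ⧸ 𝔟 ^ k) M' :=
    (TrivSqZeroExt.map fC).restrictScalars A
  have hπfst : ∀ x, (π x).fst = x.fst := fun x => TrivSqZeroExt.fst_map fC x
  have hπsnd : ∀ x, (π x).snd = f x.snd := fun x => TrivSqZeroExt.snd_map fC x
  have hπ : Function.Surjective π := by
    intro y
    obtain ⟨m, hm⟩ := hf y.snd
    exact ⟨TrivSqZeroExt.inl y.fst + TrivSqZeroExt.inr m, TrivSqZeroExt.ext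
      (by rw [hπfst]; simp) (by rw [hπsnd]; simp [hm])⟩
  have hker : IsNilpotent (RingHom.ker π) := by
    refine ⟨2, le_bot_iff.mp ?_⟩
    rw [pow_two, Ideal.mul_le]
    intro x hx y hy
    have hx' : x.fst = 0 := by rw [← hπfst, RingHom.mem_ker.mp hx]; rfl
    have hy' : y.fst = 0 := by rw [← hπfst, RingHom.mem_ker.mp hy]; rfl
    refine Ideal.mem_bot.mpr (TrivSqZeroExt.ext ?_ ?_)
    · simp [hx']
    · simp [hx', hy', TrivSqZeroExt.snd_mul]
  let u : B →ₐ[A] TrivSqZeroExt (B ⧸ 𝔟 ^ k) M' :=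
    { toFun := fun b => TrivSqZeroExt.inl (Ideal.Quotient.mk (𝔟 ^ k) b) + TrivSqZeroExt.inr (d b)
      map_one' := by simp
      map_mul' := fun x y => TrivSqZeroExt.ext (by simp) (by
        simp only [TrivSqZeroExt.snd_add, TrivSqZeroExt.snd_inl, TrivSqZeroExt.snd_inr, zero_add,
          TrivSqZeroExt.snd_mul, TrivSqZeroExt.fst_add, TrivSqZeroExt.fst_inl, TrivSqZeroExt.fst_inr, add_zero,
          Derivation.leibniz, op_smul_eq_smul]
        rfl)
      map_zero' := by simp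
      map_add' := fun x y => TrivSqZeroExt.ext (by simp) (by simp)
      commutes' := fun a => TrivSqZeroExt.ext (by simp [TrivSqZeroExt.algebraMap_eq_inl'])
        (by simp [TrivSqZeroExt.algebraMap_eq_inl']) }
  have hu : ∃ j : ℕ, ∀ x ∈ 𝔟 ^ j, u x = 0 := by
    refine ⟨k + k, fun x hx => TrivSqZeroExt.ext ?_ ?_⟩
    · show (TrivSqZeroExt.inl (Ideal.Quotient.mk (𝔟 ^ k) x) + TrivSqZeroExt.inr (d x) :
        TrivSqZeroExt (B ⧸ 𝔟 ^ k) M').fst = 0
      simp [Ideal.Quotient.eq_zero_iff_mem.mpr (Ideal.pow_le_pow_right (Nat.le_add_right k k) hx)]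
    · show (TrivSqZeroExt.inl (Ideal.Quotient.mk (𝔟 ^ k) x) + TrivSqZeroExt.inr (d x) :
        TrivSqZeroExt (B ⧸ 𝔟 ^ k) M').snd = 0
      simp [derivation_eq_zero_of_mem_pow k hM' d hx]
  obtain ⟨v, hv⟩ := exists_lift_of_surjective h π hπ hker u hu
  have hfst : ∀ b, (v b).fst = Ideal.Quotient.mk (𝔟 ^ k) b := fun b => by
    rw [← hπfst, show π (v b) = u b from AlgHom.congr_fun hv b]
    simp [u]
  refine ⟨
    { toFun := fun b => (v b).snd
      map_add' := fun x y => by simp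
      map_smul' := fun a b => by simp
      map_one_eq_zero' := by simp
      leibniz' := fun x y => by
        show (v (x * y)).snd = x • (v y).snd + y • (v x).snd
        rw [map_mul, TrivSqZeroExt.snd_mul, hfst, hfst, op_smul_eq_smul]
        rfl }, fun b => ?_⟩
  show f (v b).snd = d b
  rw [← hπsnd, show π (v b) = u b from AlgHom.congr_fun hv b]
  simp [u]

end Groth.Agent.AdicSmooth
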