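/-
Adic formal smoothness of a local ring with a good presentation gives formal smoothness.
-/
import Groth.Agent.Lib.AdicSmooth.Basic
import Mathlib

universe u

open TensorProduct IsLocalRing KaehlerDifferential

namespace Groth.Agent.AdicSmooth

theorem mem_mul_of_forall_mem_sup_pow {P : Type u} [CommRing P] [IsLocalRing P] [IsNoetherianRing P]
    (L : Ideal P) (hL : L ≤ maximalIdeal P) {x : P} (hx : ∀ k : ℕ, x ∈ L ⊔ maximalIdeal P ^ (k + 1)) : x ∈ L := by
  have : Nontrivial (P ⧸ L) := Ideal.Quotient.nontrivial_iff.2 fun h =>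
    (maximalIdeal.isMaximal P).ne_top (top_le_iff.1 (h ▸ hL))
  have : IsLocalRing (P ⧸ L) := IsLocalRing.of_surjective' _ Ideal.Quotient.mk_surjective
  rw [← Ideal.Quotient.eq_zero_iff_mem, ← Ideal.mem_bot,
    ← Ideal.iInf_pow_eq_bot_of_isLocalRing (maximalIdeal (P ⧸ L)) (maximalIdeal.isMaximal _).ne_top]
  rw [Ideal.mem_iInf]
  intro k
  obtain ⟨a, ha, b, hb, hab⟩ := Submodule.mem_sup.1 (hx k)
  rw [← hab, map_add, Ideal.Quotient.eq_zero_iff_mem.2 ha, zero_add]
  refine Ideal.pow_le_pow_right (Nat.le_succ k) ?_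
  rw [← IsLocalRing.map_maximalIdeal_of_surjective _ Ideal.Quotient.mk_surjective, ← Ideal.map_pow]
  exact Ideal.mem_map_of_mem _ hb

/-- Adic formal smoothness of a local algebra with a smooth local presentation gives formal smoothness. -/
theorem formallySmooth_of_isAdicFormallySmooth {R S P : Type u} [CommRing R] [CommRing S] [IsLocalRing S]
    [Algebra R S] [CommRing P] [IsLocalRing P] [IsNoetherianRing P] [Algebra R P] [Algebra P S]
    [IsScalarTower R P S] [Algebra.FormallySmooth R P] [Module.Free P Ω[P⁄R]] [Module.Finite P Ω[P⁄R]]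
    (hs : Function.Surjective (algebraMap P S))
    (h : CAlgX.IsAdicFormallySmooth R S (maximalIdeal S)) : Algebra.FormallySmooth R S := by
  classical
  rw [Algebra.FormallySmooth.iff_injective_cotangentComplexBaseChange_residueField P hs
    (IsNoetherian.noetherian _)]
  let κ := ResidueField S
  have hκs : Function.Surjective (algebraMap P κ) := by
    rw [IsScalarTower.algebraMap_eq P S κ]
    exact IsLocalRing.residue_surjective.comp hs
  have hloc : IsLocalHom (algebraMap P S) := IsLocalHom.of_surjective _ hs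
  have hκker : ∀ p, algebraMap P κ p = 0 ↔ p ∈ maximalIdeal P := fun p => by
    rw [IsScalarTower.algebraMap_apply P S κ]
    show residue S _ = 0 ↔ _
    rw [residue_eq_zero_iff]
    exact ⟨fun h hu => h (hu.map _), fun h hu => h ((isUnit_map_iff _ _).1 hu)⟩
  set I := RingHom.ker (algebraMap P S) with hI
  have hIm : I ≤ maximalIdeal P := fun p hp hu => not_isUnit_zero ((hp : algebraMap P S p = 0) ▸ hu.map _)
  rw [injective_iff_map_eq_zero]
  intro z hz
  have hrep : ∀ z : κ ⊗[P] I, ∃ x : I, z = 1 ⊗ₜ x := by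
    intro z
    induction z using TensorProduct.induction_on with
    | zero => exact ⟨0, by rw [TensorProduct.tmul_zero]⟩
    | add a b ha hb =>
      obtain ⟨x, rfl⟩ := ha
      obtain ⟨y, rfl⟩ := hb
      exact ⟨x + y, (TensorProduct.tmul_add _ _ _).symm⟩
    | tmul c y =>
      obtain ⟨p, rfl⟩ := hκs c
      exact ⟨p • y, by rw [TensorProduct.tmul_smul, TensorProduct.smul_tmul', Algebra.smul_def, mul_one]⟩
  obtain ⟨x, rfl⟩ := hrep z
  rw [cotangentComplexBaseChange_tmul, kerToTensor_apply, one_smul] at hz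
  have key : ∀ k : ℕ, x.1 ∈ maximalIdeal P * I ⊔ maximalIdeal P ^ (k + 1) := by
    intro k
    set L := maximalIdeal P * I ⊔ maximalIdeal P ^ (k + 1) with hLdef
    let q : P →ₐ[R] P ⧸ L := Ideal.Quotient.mkₐ R L
    let J : Ideal (P ⧸ L) := I.map (Ideal.Quotient.mk L)
    have hmJ : ∀ a ∈ maximalIdeal P, ∀ j ∈ J, q a * j = 0 := by
      intro a ha j hj
      obtain ⟨i, hi, rfl⟩ := (Ideal.mem_map_iff_of_surjective _ Ideal.Quotient.mk_surjective).1 hj
      show Ideal.Quotient.mk L a * Ideal.Quotient.mk L i = 0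
      rw [← map_mul, Ideal.Quotient.eq_zero_iff_mem]
      exact Ideal.mem_sup_left (Ideal.mul_mem_mul ha hi)
    have hJ : J ^ 2 = ⊥ := by
      rw [pow_two, eq_bot_iff, Ideal.mul_le]
      intro a ha b hb
      obtain ⟨i, hi, rfl⟩ := (Ideal.mem_map_iff_of_surjective _ Ideal.Quotient.mk_surjective).1 ha
      exact Ideal.mem_bot.2 (hmJ i (hIm hi) b hb)
    let φ := IsScalarTower.toAlgHom R P S
    have hφ : Function.Surjective φ := hs
    let e := Ideal.quotientKerAlgEquivOfSurjective hφ
    let ψ₀ : (P ⧸ RingHom.ker φ) →ₐ[R] (P ⧸ L) ⧸ J :=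
      Ideal.Quotient.liftₐ _ ((Ideal.Quotient.mkₐ R J).comp q) fun p hp =>
        Ideal.Quotient.eq_zero_iff_mem.2 (Ideal.mem_map_of_mem _ hp)
    let ψ : S →ₐ[R] (P ⧸ L) ⧸ J := ψ₀.comp e.symm.toAlgHom
    have hψ : ∀ p, ψ (algebraMap P S p) = Ideal.Quotient.mk J (q p) := fun p => by
      show ψ₀ (e.symm (φ p)) = _
      rw [show e.symm (φ p) = Ideal.Quotient.mk _ p by rw [AlgEquiv.symm_apply_eq]; rfl]
      rfl
    obtain ⟨χ, hχ⟩ := h (P ⧸ L) J hJ ψ ⟨k + 1, fun s hs' => by
      rw [← IsLocalRing.map_maximalIdeal_of_surjective _ hs, ← Ideal.map_pow] at hs'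
      obtain ⟨p, hp, rfl⟩ := (Ideal.mem_map_iff_of_surjective _ hs).1 hs'
      rw [hψ, show q p = 0 from Ideal.Quotient.eq_zero_iff_mem.2 (Ideal.mem_sup_right hp), map_zero]⟩
    let g : P →ₐ[R] P ⧸ L := χ.comp φ
    have hqg : ∀ p, q p - g p ∈ J := fun p => by
      rw [← Ideal.Quotient.eq_zero_iff_mem, map_sub, sub_eq_zero, ← hψ]
      exact (AlgHom.congr_fun hχ _).symm
    let d : Derivation R P (P ⧸ L) :=
      { toLinearMap := q.toLinearMap - g.toLinearMap
        map_one_eq_zero' := by simp
        leibniz' := fun a b => by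
          show q (a * b) - g (a * b) = q a * (q b - g b) + q b * (q a - g a)
          have h2 : (q b - g b) * (q a - g a) = 0 := by
            have := Ideal.mul_mem_mul (hqg b) (hqg a)
            rw [← pow_two, hJ] at this
            exact this
          rw [map_mul, map_mul]
          linear_combination (-1 : P ⧸ L) * h2 }
    let dl := d.liftKaehlerDifferential
    have hdl : ∀ w, dl w ∈ J := by
      intro w
      have hw : w ∈ Submodule.span P (Set.range (D R P)) := by rw [span_range_derivation]; trivial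
      induction hw using Submodule.span_induction with
      | mem _ hy =>
        obtain ⟨a, rfl⟩ := hy
        rw [Derivation.liftKaehlerDifferential_comp_D]
        exact hqg a
      | zero => rw [map_zero]; exact J.zero_mem
      | add a b _ _ ha hb => rw [map_add]; exact J.add_mem ha hb
      | smul a b _ hb => rw [map_smul]; exact J.mul_mem_left (q a) hb
    let hh : P →ₗ[P] (Ω[P⁄R] →ₗ[P] P ⧸ L) := LinearMap.toSpanSingleton P _ dl
    have hker : LinearMap.ker (Algebra.linearMap P κ) ≤ LinearMap.ker hh := fun p hp => by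
      refine LinearMap.ext fun w => ?_
      show q p * dl w = 0
      exact hmJ p ((hκker p).1 hp) _ (hdl w)
    let lam : κ ⊗[P] Ω[P⁄R] →ₗ[P] P ⧸ L := TensorProduct.lift
      (((LinearMap.ker (Algebra.linearMap P κ)).liftQ hh hker).comp
        (LinearMap.quotKerEquivOfSurjective (Algebra.linearMap P κ) hκs).symm.toLinearMap)
    have hlam : ∀ w, lam ((1 : κ) ⊗ₜ w) = dl w := fun w => by
      have h1 : (LinearMap.quotKerEquivOfSurjective (Algebra.linearMap P κ) hκs).symm 1 =
          Submodule.Quotient.mk 1 := by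
        rw [LinearEquiv.symm_apply_eq]
        exact (map_one (algebraMap P κ)).symm
      show ((LinearMap.ker (Algebra.linearMap P κ)).liftQ hh hker)
        ((LinearMap.quotKerEquivOfSurjective (Algebra.linearMap P κ) hκs).symm 1) w = _
      rw [h1]
      show (1 : P) • dl w = _
      rw [one_smul]
    have h0 : d x.1 = 0 := by
      rw [← Derivation.liftKaehlerDifferential_comp_D d x.1, ← hlam]
      exact (congrArg lam hz).trans (map_zero lam)
    have hg : g x.1 = 0 := by
      show χ (φ x.1) = 0
      rw [show φ x.1 = 0 from x.2, map_zero]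
    have h1 : q x.1 - g x.1 = 0 := h0
    rw [hg, sub_zero] at h1
    exact Ideal.Quotient.eq_zero_iff_mem.1 h1
  have hx := mem_mul_of_forall_mem_sup_pow _ (Ideal.mul_le_right.trans hIm) key
  have hxs : x ∈ maximalIdeal P • (⊤ : Submodule P I) := by
    refine (Submodule.mem_smul_top_iff (maximalIdeal P) I x).2 ?_
    rwa [smul_eq_mul]
  clear hx key hz
  induction hxs using Submodule.smul_induction_on' with
  | smul a ha y _ =>
    rw [TensorProduct.tmul_smul, TensorProduct.smul_tmul', Algebra.smul_def, mul_one, (hκker a).2 ha,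
      TensorProduct.zero_tmul]
  | add a _ b _ ha hb => rw [TensorProduct.tmul_add, ha, hb, add_zero]

/-- The localisation at a prime of a finite type algebra is formally smooth when it is adically so. -/
theorem isSmoothAt_of_isAdicFormallySmooth {R S : Type u} [CommRing R] [IsNoetherianRing R] [CommRing S]
    [Algebra R S] [Algebra.FiniteType R S] (q : Ideal S) [q.IsPrime]
    (h : CAlgX.IsAdicFormallySmooth R (Localization.AtPrime q) (maximalIdeal (Localization.AtPrime q))) :
    Algebra.IsSmoothAt R q := by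
  obtain ⟨n, φ, hφ⟩ := Algebra.FiniteType.iff_quotient_mvPolynomial''.1 ‹Algebra.FiniteType R S›
  let MP := MvPolynomial (Fin n) R
  let _ : Algebra MP S := φ.toRingHom.toAlgebra
  let Q : Ideal MP := q.comap φ.toRingHom
  let P := Localization.AtPrime Q
  let Sq := Localization.AtPrime q
  let f : P →+* Sq := Localization.localRingHom Q q φ.toRingHom rfl
  let _ : Algebra P Sq := f.toAlgebra
  have : IsScalarTower R P Sq := IsScalarTower.of_algebraMap_eq fun r => by
    rw [RingHom.algebraMap_toAlgebra, IsScalarTower.algebraMap_apply R MP P,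
      Localization.localRingHom_to_map, IsScalarTower.algebraMap_apply R S Sq]
    exact congrArg _ (φ.commutes r).symm
  have : IsNoetherianRing P := IsLocalization.isNoetherianRing Q.primeCompl _ inferInstance
  have : Algebra.FormallySmooth MP P := Algebra.FormallySmooth.of_isLocalization Q.primeCompl
  have : Algebra.FormallySmooth R P := Algebra.FormallySmooth.comp R MP P
  have : Module.Free P Ω[P⁄R] := Module.free_of_isLocalizedModule Q.primeCompl (map R R MP P)
  have : Module.Finite P Ω[P⁄R] := Module.Finite.of_isLocalizedModule Q.primeCompl (map R R MP P)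
  refine formallySmooth_of_isAdicFormallySmooth (P := P) (fun y => ?_) h
  obtain ⟨a, ⟨s, hs⟩, rfl⟩ := IsLocalization.exists_mk'_eq q.primeCompl y
  obtain ⟨a', rfl⟩ := hφ a
  obtain ⟨s', rfl⟩ := hφ s
  exact ⟨IsLocalization.mk' P a' (⟨s', hs⟩ : Q.primeCompl), Localization.localRingHom_mk' _ _ _ _ _ _⟩

end Groth.Agent.AdicSmooth
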