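import Groth.Agent.Lib.SymGr.Adic
import Mathlib.RingTheory.Kaehler.Basic
import Mathlib.Algebra.Exact.Basic
import Mathlib.LinearAlgebra.TensorProduct.RightExactness
import Mathlib.Algebra.Module.Torsion.Basic

/-!
# Adic formal smoothness through a base `Λ`: derivation extension
-/

universe u v
open scoped TensorProduct
open KaehlerDifferential

namespace Groth.Agent.AdicSmooth

variable {Λ A B : Type u} [CommRing Λ] [CommRing A] [CommRing B] [Algebra Λ A] [Algebra A B] [Algebra Λ B]
  [IsScalarTower Λ A B] (J : Ideal B)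

theorem trans_discrete [Algebra.FormallySmooth Λ A] (h : CAlgX.IsAdicFormallySmooth A B J) :
    CAlgX.IsAdicFormallySmooth Λ B J := by
  intro E _ _ N hN ψ hψ
  let g := Algebra.FormallySmooth.lift N ⟨2, hN⟩ (ψ.comp (IsScalarTower.toAlgHom Λ A B))
  letI : Algebra A E := g.toRingHom.toAlgebra
  let ψA : B →ₐ[A] E ⧸ N :=
    { ψ.toRingHom with
      commutes' := fun a =>
        (Algebra.FormallySmooth.mk_lift N ⟨2, hN⟩ (ψ.comp (IsScalarTower.toAlgHom Λ A B)) a).symm }
  obtain ⟨χ, hχ⟩ := h E N hN ψA hψ
  refine ⟨{ χ.toRingHom with commutes' := fun r => ?_ }, AlgHom.ext fun b => AlgHom.congr_fun hχ b⟩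
  show χ (algebraMap Λ B r) = algebraMap Λ E r
  rw [IsScalarTower.algebraMap_apply Λ A B, AlgHom.commutes]
  exact g.commutes r

/-- Derivations into modules over `B/J` extend along an adically formally smooth map. -/
theorem exists_extension {R : Type v} [CommRing R] [Algebra R A] [Algebra R B] [IsScalarTower R A B] (h : CAlgX.IsAdicFormallySmooth A B J) {M : Type u} [AddCommGroup M]
    [Module (B ⧸ J) M] [Module B M] [IsScalarTower B (B ⧸ J) M] [Module A M] [IsScalarTower A B M] [Module R M]
    [IsScalarTower R A M] [IsScalarTower R B M] (e : Derivation R A M) :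
    ∃ d : Derivation R B M, ∀ a, d (algebraMap A B a) = e a := by
  letI : Module (B ⧸ J)ᵐᵒᵖ M := Module.compHom M ((RingHom.id (B ⧸ J)).fromOpposite mul_comm)
  haveI : IsCentralScalar (B ⧸ J) M := ⟨fun _ _ => rfl⟩
  have hsm : ∀ (a : A) (m : M), algebraMap A (B ⧸ J) a • m = a • m := fun a m => by
    rw [IsScalarTower.algebraMap_apply A B (B ⧸ J), algebraMap_smul, algebraMap_smul]
  letI : Algebra A (TrivSqZeroExt (B ⧸ J) M) := RingHom.toAlgebra
    { toFun := fun a => TrivSqZeroExt.inl (algebraMap A (B ⧸ J) a) + TrivSqZeroExt.inr (e a)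
      map_one' := TrivSqZeroExt.ext (by simp) (by simp)
      map_mul' := fun a b => TrivSqZeroExt.ext (by simp) (by
        simp [TrivSqZeroExt.snd_mul, op_smul_eq_smul, hsm])
      map_zero' := TrivSqZeroExt.ext (by simp) (by simp)
      map_add' := fun a b => TrivSqZeroExt.ext (by simp) (by simp) }
  let π : TrivSqZeroExt (B ⧸ J) M →ₐ[A] B ⧸ J :=
    { (TrivSqZeroExt.fstHom (B ⧸ J) (B ⧸ J) M).toRingHom with
      commutes' := fun a => by
        show (TrivSqZeroExt.inl (algebraMap A (B ⧸ J) a) + TrivSqZeroExt.inr (e a) : TrivSqZeroExt (B ⧸ J) M).fst = _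
        simp }
  have hπ : ∀ x, π x = x.fst := fun _ => rfl
  have hnil : IsNilpotent (RingHom.ker π) := by
    refine ⟨2, le_bot_iff.mp ?_⟩
    rw [pow_two, Ideal.mul_le]
    intro x hx y hy
    have hx' : x.fst = 0 := hx
    have hy' : y.fst = 0 := hy
    refine Ideal.mem_bot.mpr (TrivSqZeroExt.ext ?_ ?_) <;> simp [hx', hy', TrivSqZeroExt.snd_mul]
  obtain ⟨χ, hχ⟩ := exists_lift_of_surjective h π (fun c => ⟨TrivSqZeroExt.inl c, by simp [hπ]⟩) hnil
    (Ideal.Quotient.mkₐ A J) ⟨1, fun x hx => Ideal.Quotient.eq_zero_iff_mem.mpr (by simpa using hx)⟩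
  have hfst : ∀ b, (χ b).fst = Ideal.Quotient.mk J b := fun b => AlgHom.congr_fun hχ b
  have halg : ∀ a, (χ (algebraMap A B a)).snd = e a := fun a => by
    rw [AlgHom.commutes]
    show (TrivSqZeroExt.inl (algebraMap A (B ⧸ J) a) + TrivSqZeroExt.inr (e a) : TrivSqZeroExt (B ⧸ J) M).snd = _
    simp
  have hb : ∀ (b : B) (m : M), Ideal.Quotient.mk J b • m = b • m := fun b m =>
    algebraMap_smul (B ⧸ J) b m
  refine ⟨
    { toFun := fun b => (χ b).snd
      map_add' := fun x y => by simp
      map_smul' := fun r x => by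
        rw [← IsScalarTower.algebraMap_smul A r x, RingHom.id_apply, Algebra.smul_def, map_mul,
          TrivSqZeroExt.snd_mul, hfst, hfst, halg, op_smul_eq_smul]
        rw [Derivation.map_algebraMap, smul_zero, add_zero,
          ← IsScalarTower.algebraMap_apply R A B, hb, algebraMap_smul]
      map_one_eq_zero' := by simp
      leibniz' := fun x y => by
        show (χ (x * y)).snd = x • (χ y).snd + y • (χ x).snd
        rw [map_mul, TrivSqZeroExt.snd_mul, hfst, hfst, op_smul_eq_smul, hb, hb] }, halg⟩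

/-- Injectivity of `C ⊗ (B ⊗ Ω_{A/R}) → C ⊗ Ω_{B/R}`, `C = B/J`. -/
theorem injective_lTensor_mapBaseChange {R : Type v} [CommRing R] [Algebra R A] [Algebra R B] [IsScalarTower R A B] (h : CAlgX.IsAdicFormallySmooth A B J) :
    Function.Injective ((mapBaseChange R A B).lTensor (B ⧸ J)) := by
  let e : Derivation R A ((B ⧸ J) ⊗[B] (B ⊗[A] Ω[A⁄R])) :=
    (((TensorProduct.mk B (B ⧸ J) (B ⊗[A] Ω[A⁄R]) 1).restrictScalars A) ∘ₗ
      (TensorProduct.mk A B Ω[A⁄R] 1)).compDer (D R A)
  obtain ⟨d, hd⟩ := exists_extension J h e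
  let L := d.liftKaehlerDifferential.liftBaseChange (B ⧸ J)
  have hL : ∀ z, L ((mapBaseChange R A B).lTensor (B ⧸ J) z) = z := by
    intro z
    induction z using TensorProduct.induction_on with
    | zero => simp
    | add a b ha hb => rw [map_add, map_add, ha, hb]
    | tmul c w =>
      induction w using TensorProduct.induction_on with
      | zero => simp
      | add a b ha hb => simp only [TensorProduct.tmul_add, map_add, ha, hb]
      | tmul b y =>
        have hy : y ∈ Submodule.span A (Set.range (D R A)) := by rw [span_range_derivation]; trivial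
        induction hy using Submodule.span_induction with
        | mem _ hy =>
          obtain ⟨a, rfl⟩ := hy
          simp only [L, LinearMap.lTensor_tmul, mapBaseChange_tmul, KaehlerDifferential.map_D,
            LinearMap.liftBaseChange_tmul, map_smul, Derivation.liftKaehlerDifferential_comp_D, hd]
          show c • b • ((1 : B ⧸ J) ⊗ₜ[B] ((1 : B) ⊗ₜ[A] D R A a)) = _
          simp [TensorProduct.smul_tmul', smul_eq_mul]
          rw [TensorProduct.smul_tmul, TensorProduct.smul_tmul', smul_eq_mul, mul_one]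
        | zero => simp
        | add p q _ _ hp hq => simp only [TensorProduct.tmul_add, map_add, hp, hq]
        | smul a p _ hp =>
          rw [TensorProduct.tmul_smul, ← algebraMap_smul B a (b ⊗ₜ[A] p), TensorProduct.tmul_smul, map_smul,
            LinearMap.map_smul_of_tower, hp]
  exact Function.LeftInverse.injective hL

theorem projective_kaehler_mod (h : CAlgX.IsAdicFormallySmooth A B J) :
    Module.Projective (B ⧸ J) ((B ⧸ J) ⊗[B] Ω[B⁄A]) := by
  let P := (B ⧸ J) ⊗[B] Ω[B⁄A]
  let δ : Derivation A B P := (TensorProduct.mk B (B ⧸ J) Ω[B⁄A] 1).compDer (D A B)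
  let p : (P →₀ B ⧸ J) →ₗ[B] P := (Finsupp.linearCombination (B ⧸ J) id).restrictScalars B
  have hkill : ∀ x ∈ J ^ 1, ∀ v : P →₀ B ⧸ J, x • v = 0 := fun x hx v => by
    ext i
    rw [Finsupp.smul_apply, Algebra.smul_def, show algebraMap B (B ⧸ J) x = 0 from
      Ideal.Quotient.eq_zero_iff_mem.mpr (by simpa using hx), zero_mul, Finsupp.zero_apply]
  obtain ⟨D', hD⟩ := derivation_lift h 1 hkill p (fun c => ⟨Finsupp.single c 1, by simp [p]⟩) δ
  refine Module.projective_def'.mpr ⟨D'.liftKaehlerDifferential.liftBaseChange (B ⧸ J), LinearMap.ext fun z => ?_⟩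
  rw [LinearMap.comp_apply, LinearMap.id_apply]
  induction z using TensorProduct.induction_on with
  | zero => simp
  | add a b ha hb => simp only [map_add, ha, hb]
  | tmul c w =>
    have hw : w ∈ Submodule.span B (Set.range (D A B)) := by rw [span_range_derivation]; trivial
    induction hw using Submodule.span_induction with
    | mem _ hw =>
      obtain ⟨b, rfl⟩ := hw
      rw [LinearMap.liftBaseChange_tmul, map_smul, Derivation.liftKaehlerDifferential_comp_D,
        show Finsupp.linearCombination (B ⧸ J) id (D' b) = δ b from hD b]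
      show c • ((1 : B ⧸ J) ⊗ₜ[B] D A B b) = _
      rw [TensorProduct.smul_tmul', smul_eq_mul, mul_one]
    | zero => simp
    | add p q _ _ hp hq => simp only [TensorProduct.tmul_add, map_add, hp, hq]
    | smul b p _ hp =>
      rw [TensorProduct.tmul_smul, LinearMap.map_smul_of_tower, LinearMap.map_smul_of_tower, hp]

/-- Derivations of `A` into modules killed by `J` extend to `B`. -/
theorem extend_one (hinj : Function.Injective ((mapBaseChange Λ A B).lTensor (B ⧸ J)))
    [Module.Projective (B ⧸ J) ((B ⧸ J) ⊗[B] Ω[B⁄A])] {M : Type u} [AddCommGroup M] [Module B M] [Module A M]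
    [IsScalarTower A B M] [Module Λ M] [IsScalarTower Λ B M] [IsScalarTower Λ A M]
    (hM : ∀ x ∈ J, ∀ m : M, x • m = 0) (d : Derivation Λ A M) :
    ∃ D' : Derivation Λ B M, ∀ a, D' (algebraMap A B a) = d a := by
  let f := (mapBaseChange Λ A B).baseChange (B ⧸ J)
  let g := (KaehlerDifferential.map Λ A B B).baseChange (B ⧸ J)
  have hfg : Function.Exact f g :=
    lTensor_exact (B ⧸ J) (exact_mapBaseChange_map Λ A B) (KaehlerDifferential.map_surjective Λ A B)
  have hg : Function.Surjective g :=
    LinearMap.lTensor_surjective (B ⧸ J) (KaehlerDifferential.map_surjective Λ A B)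
  obtain ⟨s, hs⟩ := Module.projective_lifting_property g LinearMap.id hg
  have h01 : (Function.Injective f ∧ ∃ l, g ∘ₗ l = LinearMap.id) ↔
      (Function.Surjective g ∧ ∃ l, l ∘ₗ f = LinearMap.id) := hfg.split_tfae'.out 0 1
  obtain ⟨-, l, hl⟩ := h01.mp ⟨hinj, s, hs⟩
  let L1 : B ⊗[A] Ω[A⁄Λ] →ₗ[B] M := d.liftKaehlerDifferential.liftBaseChange B
  have hk : (J : Submodule B B) ≤ LinearMap.ker (LinearMap.toSpanSingleton B ((B ⊗[A] Ω[A⁄Λ]) →ₗ[B] M) L1) :=
    fun x hx => LinearMap.ext fun c => hM x hx _
  let L : (B ⧸ J) ⊗[B] (B ⊗[A] Ω[A⁄Λ]) →ₗ[B] M := TensorProduct.lift (Submodule.liftQ _ _ hk)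
  refine ⟨(L ∘ₗ (l.restrictScalars B) ∘ₗ (TensorProduct.mk B (B ⧸ J) Ω[B⁄Λ] 1)).compDer (D Λ B), fun a => ?_⟩
  show L (l ((1 : B ⧸ J) ⊗ₜ[B] D Λ B (algebraMap A B a))) = d a
  have h1 : f ((1 : B ⧸ J) ⊗ₜ[B] ((1 : B) ⊗ₜ[A] D Λ A a)) = (1 : B ⧸ J) ⊗ₜ[B] D Λ B (algebraMap A B a) := by
    simp [f, mapBaseChange_tmul, KaehlerDifferential.map_D]
  rw [← h1, show l (f _) = _ from LinearMap.congr_fun hl _]
  show ((1 : B) • L1) ((1 : B) ⊗ₜ[A] D Λ A a) = d a
  simp [L1, LinearMap.liftBaseChange_tmul, Derivation.liftKaehlerDifferential_comp_D]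

theorem extend_pow (hB : CAlgX.IsAdicFormallySmooth Λ B J)
    (hinj : Function.Injective ((mapBaseChange Λ A B).lTensor (B ⧸ J)))
    [Module.Projective (B ⧸ J) ((B ⧸ J) ⊗[B] Ω[B⁄A])] (r : ℕ) :
    ∀ (M : Type u) [AddCommGroup M] [Module B M] [Module A M] [IsScalarTower A B M] [Module Λ M]
      [IsScalarTower Λ B M] [IsScalarTower Λ A M],
      (∀ x ∈ J ^ r, ∀ m : M, x • m = 0) → ∀ d : Derivation Λ A M,
        ∃ D' : Derivation Λ B M, ∀ a, D' (algebraMap A B a) = d a := by
  induction r with
  | zero =>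
    intro M _ _ _ _ _ _ _ hr d
    have h0 : ∀ m : M, m = 0 := fun m => by simpa using hr 1 (by simp) m
    exact ⟨0, fun a => by rw [h0 (d a)]; rfl⟩
  | succ r ih =>
    intro M _ _ _ _ _ _ _ hr d
    let N : Submodule B M := J ^ r • ⊤
    obtain ⟨D₁, hD₁⟩ := ih (M ⧸ N) (fun x hx m => by
        obtain ⟨m, rfl⟩ := Submodule.Quotient.mk_surjective _ m
        rw [← Submodule.Quotient.mk_smul, Submodule.Quotient.mk_eq_zero]
        exact Submodule.smul_mem_smul hx trivial) ((N.mkQ.restrictScalars A).compDer d)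
    obtain ⟨D₂, hD₂⟩ := derivation_lift hB (r + 1) hr N.mkQ N.mkQ_surjective D₁
    have hmem : ∀ a, d a - D₂ (algebraMap A B a) ∈ N := fun a => by
      rw [← Submodule.Quotient.eq]
      exact ((hD₂ _).trans (hD₁ a)).symm
    let d' : Derivation Λ A ↥N :=
      { toFun := fun a => ⟨d a - D₂ (algebraMap A B a), hmem a⟩
        map_add' := fun x y => Subtype.ext (by
          show d (x + y) - D₂ (algebraMap A B (x + y)) = (d x - D₂ (algebraMap A B x)) + (d y - D₂ (algebraMap A B y))
          rw [map_add, map_add, map_add]; abel)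
        map_smul' := fun r x => Subtype.ext (by
          show d (r • x) - D₂ (algebraMap A B (r • x)) = r • (d x - D₂ (algebraMap A B x))
          rw [Derivation.map_smul, Algebra.algebraMap_eq_smul_one (R := A), smul_assoc,
            ← Algebra.algebraMap_eq_smul_one (R := A), Derivation.map_smul, smul_sub])
        map_one_eq_zero' := Subtype.ext (by simp)
        leibniz' := fun x y => Subtype.ext (by
          show d (x * y) - D₂ (algebraMap A B (x * y)) =
            x • (d y - D₂ (algebraMap A B y)) + y • (d x - D₂ (algebraMap A B x))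
          rw [Derivation.leibniz, map_mul, Derivation.leibniz, smul_sub, smul_sub, algebraMap_smul, algebraMap_smul]
          abel) }
    obtain ⟨D₃, hD₃⟩ := extend_one J hinj (M := ↥N) (fun x hx m => Subtype.ext (by
      show x • (m : M) = 0
      refine Submodule.smul_induction_on m.2 (fun s hs z _ => ?_) fun a b ha hb => by rw [smul_add, ha, hb, add_zero]
      rw [smul_smul]
      exact hr _ (by rw [pow_succ']; exact Ideal.mul_mem_mul hx hs) z)) d'
    refine ⟨D₂ + N.subtype.compDer D₃, fun a => ?_⟩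
    show D₂ (algebraMap A B a) + ((D₃ (algebraMap A B a) : ↥N) : M) = d a
    rw [hD₃]
    exact add_sub_cancel _ _

/-- The Jacobian criterion direction. -/
theorem of_jacobian (hB : CAlgX.IsAdicFormallySmooth Λ B J)
    (hinj : Function.Injective ((mapBaseChange Λ A B).lTensor (B ⧸ J)))
    [Module.Projective (B ⧸ J) ((B ⧸ J) ⊗[B] Ω[B⁄A])] : CAlgX.IsAdicFormallySmooth A B J := by
  intro E _ _ N hN ψ hψ
  obtain ⟨k, hk⟩ := hψ
  letI : Algebra Λ E := ((algebraMap A E).comp (algebraMap Λ A)).toAlgebra
  haveI : IsScalarTower Λ A E := IsScalarTower.of_algebraMap_eq fun _ => rfl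
  obtain ⟨v, hv⟩ := hB E N hN (ψ.restrictScalars Λ) ⟨k, hk⟩
  have hv' : ∀ b, Ideal.Quotient.mk N (v b) = ψ b := fun b => AlgHom.congr_fun hv b
  letI : Algebra B E := v.toRingHom.toAlgebra
  haveI : IsScalarTower Λ B E := IsScalarTower.of_algebraMap_eq fun r => (v.commutes r).symm
  have hNN : ∀ a ∈ N, ∀ b ∈ N, a * b = 0 := fun a ha b hb =>
    (Submodule.mem_bot E).mp (hN ▸ (pow_two N).symm ▸ Ideal.mul_mem_mul ha hb)
  letI : Module A ↥(N.restrictScalars B) := Module.compHom _ (algebraMap A B)
  haveI : IsScalarTower A B ↥(N.restrictScalars B) := IsScalarTower.of_algebraMap_smul fun _ _ => rfl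
  haveI : IsScalarTower Λ A ↥(N.restrictScalars B) := ⟨fun r a m => by
    show algebraMap A B (r • a) • m = r • (algebraMap A B a • m)
    rw [Algebra.smul_def, map_mul, ← IsScalarTower.algebraMap_apply Λ A B, mul_smul, algebraMap_smul]⟩
  have hdiff : ∀ a, v (algebraMap A B a) - algebraMap A E a ∈ N := fun a => by
    rw [← Ideal.Quotient.eq_zero_iff_mem, map_sub, hv', AlgHom.commutes]
    exact sub_self _
  let d : Derivation Λ A ↥(N.restrictScalars B) :=
    { toFun := fun a => ⟨v (algebraMap A B a) - algebraMap A E a, hdiff a⟩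
      map_add' := fun x y => Subtype.ext (by
        show v (algebraMap A B (x + y)) - algebraMap A E (x + y) = (v (algebraMap A B x) - algebraMap A E x) + (v (algebraMap A B y) - algebraMap A E y)
        rw [map_add, map_add, map_add]; ring)
      map_smul' := fun r x => Subtype.ext (by
        show v (algebraMap A B (r • x)) - algebraMap A E (r • x) = r • (v (algebraMap A B x) - algebraMap A E x)
        simp only [Algebra.smul_def, map_mul]
        rw [← IsScalarTower.algebraMap_apply Λ A B, AlgHom.commutes, ← IsScalarTower.algebraMap_apply Λ A E]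
        ring)
      map_one_eq_zero' := Subtype.ext (by simp)
      leibniz' := fun x y => Subtype.ext (by
        have h := hNN _ (hdiff x) _ (hdiff y)
        show v (algebraMap A B (x * y)) - algebraMap A E (x * y) =
          algebraMap A B x • (v (algebraMap A B y) - algebraMap A E y) +
            algebraMap A B y • (v (algebraMap A B x) - algebraMap A E x)
        rw [Algebra.smul_def, Algebra.smul_def, map_mul, map_mul, map_mul]
        show _ = v (algebraMap A B x) * _ + v (algebraMap A B y) * _
        linear_combination -h) }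
  have hkill : ∀ x ∈ J ^ k, ∀ m : ↥(N.restrictScalars B), x • m = 0 := fun x hx m => Subtype.ext (by
    show x • (m : E) = 0
    rw [Algebra.smul_def]
    exact hNN _ (Ideal.Quotient.eq_zero_iff_mem.mp ((hv' x).trans (hk x hx))) _ m.2)
  obtain ⟨D', hD'⟩ := extend_pow J hB hinj k ↥(N.restrictScalars B) hkill d
  let w : B →ₐ[A] E :=
    { toFun := fun b => v b - (D' b : E)
      map_one' := by simp
      map_mul' := fun x y => by
        have hz := hNN _ (D' x).2 _ (D' y).2
        rw [Derivation.leibniz, map_mul]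
        show v x * v y - (x • (D' y : E) + y • (D' x : E)) = _
        rw [Algebra.smul_def, Algebra.smul_def]
        show v x * v y - (v x * (D' y : E) + v y * (D' x : E)) = (v x - (D' x : E)) * (v y - (D' y : E))
        linear_combination -hz
      map_zero' := by simp
      map_add' := fun x y => by
        rw [map_add, map_add]
        show v x + v y - ((D' x : E) + (D' y : E)) = _
        ring
      commutes' := fun a => by
        rw [hD']
        show v (algebraMap A B a) - (v (algebraMap A B a) - algebraMap A E a) = _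
        ring }
  refine ⟨w, AlgHom.ext fun b => ?_⟩
  show Ideal.Quotient.mk N (v b - (D' b : E)) = ψ b
  rw [map_sub, hv', Ideal.Quotient.eq_zero_iff_mem.mpr (D' b).2, sub_zero]

end Groth.Agent.AdicSmooth
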