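import Groth.Agent.Lib.AdicSmooth.Deriv
import Mathlib.RingTheory.Kaehler.Basic
import Mathlib.RingTheory.TensorProduct.Maps
import Mathlib.LinearAlgebra.TensorProduct.Tower
import Mathlib.Algebra.Module.Projective

/-!
# Kaehler differentials of adically formally smooth algebras
-/

universe u

namespace Groth.Agent.AdicSmooth

/-- Adic formal smoothness: derivations into modules killed by a power of `𝔟` lift along surjections. -/
theorem derivation_lift_adic {A B : Type u} [CommRing A] [CommRing B] [Algebra A B] {𝔞 : Ideal A} {𝔟 : Ideal B}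
    (hAB : ∃ j : ℕ, (𝔞 ^ j).map (algebraMap A B) ≤ 𝔟) (h : EGA41.IsFormallySmoothAdic A 𝔞 B 𝔟) {M M' : Type u} [AddCommGroup M]
    [AddCommGroup M'] [Module B M] [Module B M'] [Module A M] [Module A M'] [IsScalarTower A B M]
    [IsScalarTower A B M'] (k : ℕ) (hM : ∀ x ∈ 𝔟 ^ k, ∀ m : M, x • m = 0) (f : M →ₗ[B] M')
    (hf : Function.Surjective f) (d : Derivation A B M') :
    ∃ D : Derivation A B M, ∀ b, f (D b) = d b := by
  have hM' : ∀ x ∈ 𝔟 ^ k, ∀ m : M', x • m = 0 := fun x hx m => by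
    obtain ⟨m, rfl⟩ := hf m
    rw [← map_smul, hM x hx, map_zero]
  have htM : Module.IsTorsionBySet B M (𝔟 ^ k : Ideal B) := fun m x => hM x.1 x.2 m
  have htM' : Module.IsTorsionBySet B M' (𝔟 ^ k : Ideal B) := fun m x => hM' x.1 x.2 m
  letI : Module (B ⧸ 𝔟 ^ k) M := htM.module
  letI : Module (B ⧸ 𝔟 ^ k) M' := htM'.module
  letI : Module (B ⧸ 𝔟 ^ k)ᵐᵒᵖ M := Module.compHom M ((RingHom.id (B ⧸ 𝔟 ^ k)).fromOpposite mul_comm)
  haveI : IsCentralScalar (B ⧸ 𝔟 ^ k) M := ⟨fun _ _ => rfl⟩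
  letI : Module (B ⧸ 𝔟 ^ k)ᵐᵒᵖ M' := Module.compHom M' ((RingHom.id (B ⧸ 𝔟 ^ k)).fromOpposite mul_comm)
  haveI : IsCentralScalar (B ⧸ 𝔟 ^ k) M' := ⟨fun _ _ => rfl⟩
  haveI : IsScalarTower A (B ⧸ 𝔟 ^ k) M := ⟨fun a c m => by
    obtain ⟨b, rfl⟩ := Ideal.Quotient.mk_surjective c
    show Ideal.Quotient.mk (𝔟 ^ k) (a • b) • m = a • (Ideal.Quotient.mk (𝔟 ^ k) b • m)
    exact smul_assoc a b m⟩
  haveI : IsScalarTower A (B ⧸ 𝔟 ^ k) M' := ⟨fun a c m => by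
    obtain ⟨b, rfl⟩ := Ideal.Quotient.mk_surjective c
    show Ideal.Quotient.mk (𝔟 ^ k) (a • b) • m = a • (Ideal.Quotient.mk (𝔟 ^ k) b • m)
    exact smul_assoc a b m⟩
  let fC : M →ₗ[B ⧸ 𝔟 ^ k] M' :=
    { f.toAddMonoidHom with
      map_smul' := fun c m => by
        obtain ⟨b, rfl⟩ := Ideal.Quotient.mk_surjective c
        exact f.map_smul b m }
  let π : TrivSqZeroExt (B ⧸ 𝔟 ^ k) M →ₐ[A] TrivSqZeroExt (B ⧸ 𝔟 ^ k) M' :=
    (TrivSqZeroExt.map fC).restrictScalars A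
  have hπfst : ∀ x, (π x).fst = x.fst := fun x => TrivSqZeroExt.fst_map fC x
  have hπsnd : ∀ x, (π x).snd = f x.snd := fun x => TrivSqZeroExt.snd_map fC x
  have hπ : Function.Surjective π := by
    intro y
    obtain ⟨m, hm⟩ := hf y.snd
    exact ⟨TrivSqZeroExt.inl y.fst + TrivSqZeroExt.inr m, TrivSqZeroExt.ext
      (by rw [hπfst]; simp) (by rw [hπsnd]; simp [hm])⟩
  have hker : IsNilpotent (RingHom.ker π) := by
    refine ⟨2, le_bot_iff.mp ?_⟩
    rw [pow_two, Ideal.mul_le]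
    intro x hx y hy
    have hx' : x.fst = 0 := by rw [← hπfst, RingHom.mem_ker.mp hx]; rfl
    have hy' : y.fst = 0 := by rw [← hπfst, RingHom.mem_ker.mp hy]; rfl
    refine Ideal.mem_bot.mpr (TrivSqZeroExt.ext ?_ ?_)
    · simp [hx']
    · simp [hx', hy', TrivSqZeroExt.snd_mul]
  let u : B →ₐ[A] TrivSqZeroExt (B ⧸ 𝔟 ^ k) M' :=
    { toFun := fun b => TrivSqZeroExt.inl (Ideal.Quotient.mk (𝔟 ^ k) b) + TrivSqZeroExt.inr (d b)
      map_one' := by simp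
      map_mul' := fun x y => TrivSqZeroExt.ext (by simp) (by
        simp only [TrivSqZeroExt.snd_add, TrivSqZeroExt.snd_inl, TrivSqZeroExt.snd_inr, zero_add,
          TrivSqZeroExt.snd_mul, TrivSqZeroExt.fst_add, TrivSqZeroExt.fst_inl, TrivSqZeroExt.fst_inr, add_zero,
          Derivation.leibniz, op_smul_eq_smul]
        rfl)
      map_zero' := by simp
      map_add' := fun x y => TrivSqZeroExt.ext (by simp) (by simp)
      commutes' := fun a => TrivSqZeroExt.ext (by simp [TrivSqZeroExt.algebraMap_eq_inl'])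
        (by simp [TrivSqZeroExt.algebraMap_eq_inl']) }
  have hu : ∃ j : ℕ, ∀ x ∈ 𝔟 ^ j, u x = 0 := by
    refine ⟨k + k, fun x hx => TrivSqZeroExt.ext ?_ ?_⟩
    · show (TrivSqZeroExt.inl (Ideal.Quotient.mk (𝔟 ^ k) x) + TrivSqZeroExt.inr (d x) :
        TrivSqZeroExt (B ⧸ 𝔟 ^ k) M').fst = 0
      simp [Ideal.Quotient.eq_zero_iff_mem.mpr (Ideal.pow_le_pow_right (Nat.le_add_right k k) hx)]
    · show (TrivSqZeroExt.inl (Ideal.Quotient.mk (𝔟 ^ k) x) + TrivSqZeroExt.inr (d x) :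
        TrivSqZeroExt (B ⧸ 𝔟 ^ k) M').snd = 0
      simp [derivation_eq_zero_of_mem_pow k hM' d hx]
  have hC : ∃ i : ℕ, (𝔞 ^ i).map (algebraMap A (TrivSqZeroExt (B ⧸ 𝔟 ^ k) M)) = ⊥ := by
    obtain ⟨j, hj⟩ := hAB
    refine ⟨j * k, le_bot_iff.mp (Ideal.map_le_iff_le_comap.mpr fun a ha => ?_)⟩
    have : algebraMap A B a ∈ 𝔟 ^ k := by
      refine Ideal.pow_right_mono hj k ?_
      rw [← Ideal.map_pow, ← pow_mul]
      exact Ideal.mem_map_of_mem _ ha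
    rw [Ideal.mem_comap, Ideal.mem_bot, TrivSqZeroExt.algebraMap_eq_inl',
      IsScalarTower.algebraMap_apply A B (B ⧸ 𝔟 ^ k), Ideal.Quotient.algebraMap_eq,
      Ideal.Quotient.eq_zero_iff_mem.mpr this, TrivSqZeroExt.inl_zero]
  let e := Ideal.quotientKerAlgEquivOfSurjective (f := π) hπ
  obtain ⟨v, hv'⟩ := h _ (RingHom.ker π) hker hC (e.symm.toAlgHom.comp u)
    (hu.imp fun j hj x hx => by simp [hj x hx])
  have hv : π.comp v = u := AlgHom.ext fun b => by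
    have h1 := congrArg e (AlgHom.congr_fun hv' b)
    simp only [AlgHom.comp_apply, AlgEquiv.coe_toAlgHom, AlgEquiv.apply_symm_apply] at h1
    exact h1
  have hfst : ∀ b, (v b).fst = Ideal.Quotient.mk (𝔟 ^ k) b := fun b => by
    rw [← hπfst, show π (v b) = u b from AlgHom.congr_fun hv b]
    simp [u]
  refine ⟨
    { toFun := fun b => (v b).snd
      map_add' := fun x y => by simp
      map_smul' := fun a b => by simp
      map_one_eq_zero' := by simp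
      leibniz' := fun x y => by
        show (v (x * y)).snd = x • (v y).snd + y • (v x).snd
        rw [map_mul, TrivSqZeroExt.snd_mul, hfst, hfst, op_smul_eq_smul]
        rfl }, fun b => ?_⟩
  show f (v b).snd = d b
  rw [← hπsnd, show π (v b) = u b from AlgHom.congr_fun hv b]
  simp [u]


open TensorProduct in
theorem projective_kaehler_mod {A B : Type u} [CommRing A] [CommRing B] [Algebra A B]
    (𝔞 : Ideal A) (𝔟 : Ideal B) (hAB : ∃ j : ℕ, (𝔞 ^ j).map (algebraMap A B) ≤ 𝔟)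
    (h : EGA41.IsFormallySmoothAdic A 𝔞 B 𝔟) (𝔄 : Ideal B) (h𝔄 : ∃ n : ℕ, 𝔟 ^ n ≤ 𝔄) :
    Module.Projective (B ⧸ 𝔄) ((B ⧸ 𝔄) ⊗[B] Ω[B⁄A]) := by
  obtain ⟨n, hn⟩ := h𝔄
  let f : (((B ⧸ 𝔄) ⊗[B] Ω[B⁄A]) →₀ (B ⧸ 𝔄)) →ₗ[B ⧸ 𝔄] (B ⧸ 𝔄) ⊗[B] Ω[B⁄A] :=
    Finsupp.linearCombination (B ⧸ 𝔄) id
  have hf : Function.Surjective f := Finsupp.linearCombination_id_surjective (B ⧸ 𝔄) _
  let d : Derivation A B ((B ⧸ 𝔄) ⊗[B] Ω[B⁄A]) :=
    (TensorProduct.mk B (B ⧸ 𝔄) Ω[B⁄A] 1).compDer (KaehlerDifferential.D A B)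
  have hM : ∀ x ∈ 𝔟 ^ n, ∀ m : ((B ⧸ 𝔄) ⊗[B] Ω[B⁄A]) →₀ (B ⧸ 𝔄), x • m = 0 := fun x hx m => by
    rw [← algebraMap_smul (B ⧸ 𝔄) x m, Ideal.Quotient.algebraMap_eq,
      Ideal.Quotient.eq_zero_iff_mem.mpr (hn hx), zero_smul]
  obtain ⟨D, hD⟩ := derivation_lift_adic hAB h n hM (f.restrictScalars B) hf d
  have hl : (f.restrictScalars B).comp D.liftKaehlerDifferential = TensorProduct.mk B (B ⧸ 𝔄) Ω[B⁄A] 1 :=
    Derivation.liftKaehlerDifferential_unique _ _ (Derivation.ext fun b => by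
      show f (D.liftKaehlerDifferential (KaehlerDifferential.D A B b)) = _
      rw [Derivation.liftKaehlerDifferential_comp_D]
      exact hD b)
  refine Module.Projective.of_split (D.liftKaehlerDifferential.liftBaseChange (B ⧸ 𝔄)) f ?_
  refine TensorProduct.AlgebraTensorModule.ext fun c y => ?_
  rw [LinearMap.comp_apply, LinearMap.liftBaseChange_tmul, map_smul, LinearMap.id_apply,
    show f (D.liftKaehlerDifferential y) = (1 : B ⧸ 𝔄) ⊗ₜ[B] y from LinearMap.congr_fun hl y,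
    TensorProduct.smul_tmul', smul_eq_mul, mul_one]

end Groth.Agent.AdicSmooth
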