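/-
Evaluating formal power series at nilpotent elements.
-/
import Mathlib.RingTheory.MvPowerSeries.Equiv
import Mathlib.RingTheory.Nilpotent.Lemmas
import Groth.Agent.Lib.AdicSmooth.Basic

universe u v w

namespace Groth.Agent.AdicSmooth

variable {σ : Type w} [Finite σ] {A : Type u} [CommRing A] {E : Type v} [CommRing E] [Algebra A E]

/-- Evaluation of power series at nilpotent elements. -/
theorem exists_algHom_of_isNilpotent (z : σ → E) (hz : ∀ i, IsNilpotent (z i)) :
    ∃ g : MvPowerSeries σ A →ₐ[A] E, (∀ i, g (MvPowerSeries.X i) = z i) ∧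
      ∀ p : MvPolynomial σ A, g (p : MvPowerSeries σ A) = MvPolynomial.aeval z p := by
  obtain ⟨M, hM⟩ : IsNilpotent ((MvPolynomial.idealOfVars σ A).map (MvPolynomial.aeval z).toRingHom) := by
    rw [Ideal.FG.isNilpotent_iff_le_nilradical ((MvPolynomial.idealOfVars_fg σ A).map _),
      MvPolynomial.idealOfVars, Ideal.map_span, Ideal.span_le]
    rintro _ ⟨_, ⟨i, rfl⟩, rfl⟩
    simpa [mem_nilradical] using hz i
  let q := MvPowerSeries.truncTotalAlgHom σ A M
  let ev : MvPolynomial σ A ⧸ (MvPolynomial.idealOfVars σ A) ^ M →ₐ[A] E :=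
    Ideal.Quotient.liftₐ _ (MvPolynomial.aeval z) (fun x hx => by
      have := Ideal.mem_map_of_mem (MvPolynomial.aeval z).toRingHom hx
      rw [Ideal.map_pow, hM] at this
      simpa using this)
  have hp : ∀ p : MvPolynomial σ A, ev (q.restrictScalars A (p : MvPowerSeries σ A)) = MvPolynomial.aeval z p := by
    intro p
    have := q.commutes p
    rw [Ideal.Quotient.algebraMap_eq] at this
    change ev (q (algebraMap (MvPolynomial σ A) (MvPowerSeries σ A) p)) = _
    rw [this]
    rfl
  refine ⟨ev.comp (q.restrictScalars A), fun i => ?_, hp⟩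
  rw [AlgHom.comp_apply, ← MvPolynomial.coe_X, hp, MvPolynomial.aeval_X]

/-- A series without terms of degree `< m` lies in the `m`-th power of the ideal of the variables. -/
theorem mem_pow_of_coeff_eq_zero {n : ℕ} (m : ℕ) (f : MvPowerSeries (Fin n) A)
    (hf : ∀ d : Fin n →₀ ℕ, d.degree < m → MvPowerSeries.coeff d f = 0) :
    f ∈ (Ideal.span (Set.range fun i : Fin n => (MvPowerSeries.X i : MvPowerSeries (Fin n) A))) ^ m := by
  classical
  induction m generalizing f with
  | zero => simp
  | succ m ih =>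
    let g : Fin n → MvPowerSeries (Fin n) A := fun i d =>
      if ∀ j < i, d j = 0 then MvPowerSeries.coeff (d + Finsupp.single i 1) f else 0
    have hg : ∀ i, g i ∈ (Ideal.span (Set.range fun i : Fin n => (MvPowerSeries.X i : MvPowerSeries (Fin n) A))) ^ m := by
      intro i
      refine ih _ fun d hd => ?_
      change (if _ then _ else _) = (0 : A)
      split
      · exact hf _ (by simpa [Finsupp.degree_single] using hd)
      · rfl
    have hsum : f = ∑ i, MvPowerSeries.X i * g i := by
      ext d
      rw [map_sum]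
      by_cases hd : d = 0
      · subst hd
        rw [hf 0 (by simp), Finset.sum_eq_zero]
        intro i _
        rw [MvPowerSeries.coeff_zero_eq_constantCoeff_apply, map_mul, MvPowerSeries.constantCoeff_X, zero_mul]
      obtain ⟨i₀, hi₀⟩ : ∃ i, d i ≠ 0 := by
        by_contra hc
        push Not at hc
        exact hd (Finsupp.ext hc)
      let i := (Finset.univ.filter fun i => d i ≠ 0).min' ⟨i₀, by simp [hi₀]⟩
      have hi : d i ≠ 0 := (Finset.mem_filter.1 ((Finset.univ.filter fun i => d i ≠ 0).min'_mem ⟨i₀, by simp [hi₀]⟩)).2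
      have hlt : ∀ j < i, d j = 0 := fun j hj => by
        by_contra hc
        exact absurd (Finset.min'_le (Finset.univ.filter fun i => d i ≠ 0) j (by simp [hc])) (not_le.2 hj)
      have key : ∀ j, MvPowerSeries.coeff d (MvPowerSeries.X j * g j) =
          if j = i then MvPowerSeries.coeff d f else 0 := by
        intro j
        rw [MvPowerSeries.X_def, MvPowerSeries.coeff_monomial_mul]
        by_cases hj : Finsupp.single j 1 ≤ d
        · rw [if_pos hj, one_mul]
          change (if _ then _ else _) = _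
          have hdj : d - Finsupp.single j 1 + Finsupp.single j 1 = d := tsub_add_cancel_of_le hj
          rw [hdj]
          have hjne : d j ≠ 0 := by
            have := hj j
            simp only [Finsupp.single_eq_same] at this
            omega
          rcases lt_trichotomy j i with h | h | h
          · exact absurd (hlt j h) hjne
          · subst h
            rw [if_pos rfl, if_pos]
            intro k hk
            simp [hlt k hk]
          · rw [if_neg h.ne', if_neg]
            intro hall
            apply hi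
            simpa [Finsupp.single_eq_of_ne h.ne] using hall i h
        · rw [if_neg hj, if_neg]
          rintro rfl
          exact hj (Finsupp.single_le_iff.2 (Nat.one_le_iff_ne_zero.2 hi))
      simp only [key, Finset.sum_ite_eq', Finset.mem_univ, if_true]
    rw [hsum, pow_succ']
    exact Ideal.sum_mem _ fun i _ => Ideal.mul_mem_mul (Ideal.subset_span ⟨i, rfl⟩) (hg i)

/-- Continuous maps out of a power series ring are determined by the variables. -/
theorem algHom_eq_of_forall_X {n : ℕ} {E : Type v} [CommRing E] [Algebra A E]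
    {I : Ideal (MvPowerSeries (Fin n) A)} (hI : ∀ i, MvPowerSeries.X i ∈ I)
    {f g : MvPowerSeries (Fin n) A →ₐ[A] E} (hf : ∃ k : ℕ, ∀ x ∈ I ^ k, f x = 0)
    (hg : ∃ k : ℕ, ∀ x ∈ I ^ k, g x = 0)
    (h : ∀ i, f (MvPowerSeries.X i) = g (MvPowerSeries.X i)) : f = g := by
  obtain ⟨k, hk⟩ := hf
  obtain ⟨l, hl⟩ := hg
  refine AlgHom.ext fun x => ?_
  let p : MvPolynomial (Fin n) A := MvPowerSeries.truncTotal (k + l) x
  have hmem : x - (p : MvPowerSeries (Fin n) A) ∈ I ^ (k + l) := by
    refine Ideal.pow_right_mono (Ideal.span_le.2 ?_) _ (mem_pow_of_coeff_eq_zero (k + l) _ fun d hd => ?_)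
    · rintro _ ⟨i, rfl⟩; exact hI i
    · rw [map_sub, MvPolynomial.coeff_coe, MvPowerSeries.coeff_truncTotal _ hd, sub_self]
  have hp : f (p : MvPowerSeries (Fin n) A) = g (p : MvPowerSeries (Fin n) A) := by
    have : f.comp (MvPolynomial.coeToMvPowerSeries.algHom A) = g.comp (MvPolynomial.coeToMvPowerSeries.algHom A) :=
      MvPolynomial.algHom_ext fun i => by simpa [MvPolynomial.coeToMvPowerSeries.algHom_apply] using h i
    simpa [MvPolynomial.coeToMvPowerSeries.algHom_apply] using congr($this p)
  have h1 := hk _ (Ideal.pow_le_pow_right (Nat.le_add_right k l) hmem)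
  have h2 := hl _ (Ideal.pow_le_pow_right (Nat.le_add_left l k) hmem)
  rw [map_sub, sub_eq_zero] at h1 h2
  rw [h1, h2, hp]

/-- The `A`-algebra of formal power series is formally smooth for the natural topology. -/
theorem exists_continuous_lift_powerSeries {n : ℕ} {A C : Type u} [CommRing A] [CommRing C] [Algebra A C]
    (𝔞 : Ideal A) (J : Ideal C) (hJ : IsNilpotent J)
    (u : MvPowerSeries (Fin n) A →ₐ[A] C ⧸ J)
    (hu : ∃ k : ℕ, ∀ x ∈ (𝔞.map (MvPowerSeries.C : A →+* MvPowerSeries (Fin n) A) ⊔
        RingHom.ker (MvPowerSeries.constantCoeff : MvPowerSeries (Fin n) A →+* A)) ^ k, u x = 0) :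
    ∃ v : MvPowerSeries (Fin n) A →ₐ[A] C, (Ideal.Quotient.mkₐ A J).comp v = u := by
  obtain ⟨k, hk⟩ := hu
  set I := 𝔞.map (MvPowerSeries.C : A →+* MvPowerSeries (Fin n) A) ⊔
        RingHom.ker (MvPowerSeries.constantCoeff : MvPowerSeries (Fin n) A →+* A)
  have hX : ∀ i : Fin n, MvPowerSeries.X i ∈ I := fun i =>
    Ideal.mem_sup_right (RingHom.mem_ker.2 (MvPowerSeries.constantCoeff_X i))
  choose z hz using fun i : Fin n => Ideal.Quotient.mk_surjective (u (MvPowerSeries.X i))
  have hznil : ∀ i, IsNilpotent (z i) := fun i => by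
    obtain ⟨N, hN⟩ := hJ
    refine ⟨k * N, ?_⟩
    have h1 : z i ^ k ∈ J := by
      rw [← Ideal.Quotient.eq_zero_iff_mem, map_pow, hz, ← map_pow]
      exact hk _ (Ideal.pow_mem_pow (hX i) k)
    have := Ideal.pow_mem_pow h1 N
    rw [hN, ← pow_mul] at this
    simpa using this
  obtain ⟨g, hgX, -⟩ := exists_algHom_of_isNilpotent (A := A) z hznil
  let I₀ : Ideal (MvPowerSeries (Fin n) A) := Ideal.span (Set.range fun i : Fin n => MvPowerSeries.X i)
  refine ⟨g, algHom_eq_of_forall_X (I := I₀) (fun i => Ideal.subset_span ⟨i, rfl⟩) ?_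
    ⟨k, fun x hx => hk x (Ideal.pow_right_mono (Ideal.span_le.2 (by rintro _ ⟨i, rfl⟩; exact hX i)) k hx)⟩
    fun i => by simp [hgX, hz]⟩
  obtain ⟨N, hN⟩ : IsNilpotent (I₀.map g.toRingHom) := by
    have hfg : I₀.FG := Submodule.fg_span (Set.finite_range _)
    rw [Ideal.FG.isNilpotent_iff_le_nilradical (hfg.map _), Ideal.map_span, Ideal.span_le]
    rintro _ ⟨_, ⟨i, rfl⟩, rfl⟩
    simpa [mem_nilradical, hgX] using hznil i
  refine ⟨N, fun x hx => ?_⟩
  have h2 : g x ∈ (I₀ ^ N).map g.toRingHom := Ideal.mem_map_of_mem g.toRingHom hx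
  rw [Ideal.map_pow, hN] at h2
  simp [show g x = 0 by simpa using h2]

end Groth.Agent.AdicSmooth
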