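/-
Power series over a field are adically formally smooth over a perfect subfield.
-/
import Groth.Agent.Lib.AdicSmooth.PowerSeries
import Groth.Agent.Lib.AdicSmooth.FieldFS
import Groth.Agent.Lib.AdicSmooth.Jacobian

universe u

namespace Groth.Agent.AdicSmooth

theorem isAdicFormallySmooth_powerSeries (F K : Type u) [Field F] [PerfectField F] [Field K] [Algebra F K]
    (n : ℕ) : CAlgX.IsAdicFormallySmooth F (MvPowerSeries (Fin n) K)
      (IsLocalRing.maximalIdeal (MvPowerSeries (Fin n) K)) := by
  have : Algebra.FormallySmooth F K := FieldFS.formallySmooth_of_perfectField F K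
  refine trans_discrete (A := K) _ fun C _ _ J hJ u hu => ?_
  obtain ⟨k, hk⟩ := hu
  refine exists_continuous_lift_powerSeries (⊥ : Ideal K) J ⟨2, hJ⟩ u ⟨k, fun x hx => hk x ?_⟩
  refine Ideal.pow_right_mono (sup_le (by rw [Ideal.map_bot]; exact bot_le) fun y hy => ?_) k hx
  rw [IsLocalRing.mem_maximalIdeal, mem_nonunits_iff, MvPowerSeries.isUnit_iff_constantCoeff,
    show MvPowerSeries.constantCoeff y = 0 from hy]
  exact not_isUnit_zero

end Groth.Agent.AdicSmooth
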