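import Groth.Agent.Lib.AdicSmooth.Jacobian
import Groth.Agent.Lib.AdicSmooth.FieldFS
import Mathlib.RingTheory.Kaehler.Basic
import Mathlib.FieldTheory.Finite.Basic
import Mathlib.Algebra.Algebra.Subalgebra.Basic
import Mathlib.RingTheory.LocalRing.ResidueField.Basic
import Mathlib.LinearAlgebra.TensorProduct.RightExactness

/-!
# Reduction to the prime field
-/

universe u v
open scoped TensorProduct
open KaehlerDifferential

namespace Groth.Agent.PrimeField

theorem perfectField_bot (k : Type u) [Field k] : PerfectField (⊥ : Subfield k) := by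
  obtain ⟨p, hp⟩ := CharP.exists k
  haveI : CharP (⊥ : Subfield k) p :=
    (RingHom.charP_iff _ (RingHom.injective (⊥ : Subfield k).subtype) p).mpr hp
  rcases CharP.char_is_prime_or_zero (⊥ : Subfield k) p with h | h
  · haveI : Fact p.Prime := ⟨h⟩
    haveI : Fintype (⊥ : Subfield k) := Subfield.fintypeBot k p
    exact PerfectField.ofFinite
  · subst h
    haveI := CharP.charP_to_charZero (⊥ : Subfield k)
    exact PerfectField.ofCharZero

theorem derivation_bot_eq_zero {k : Type u} [Field k] {M : Type u} [AddCommGroup M]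
    [Module (⊥ : Subfield k) M] (d : Derivation ℤ (⊥ : Subfield k) M) (x : (⊥ : Subfield k)) : d x = 0 := by
  let S : Subfield k :=
    { carrier := {y | ∃ h : y ∈ (⊥ : Subfield k), d ⟨y, h⟩ = 0}
      mul_mem' := by
        rintro a b ⟨ha, ha'⟩ ⟨hb, hb'⟩
        refine ⟨mul_mem ha hb, ?_⟩
        rw [show (⟨a * b, mul_mem ha hb⟩ : (⊥ : Subfield k)) = ⟨a, ha⟩ * ⟨b, hb⟩ from rfl, Derivation.leibniz,
          ha', hb', smul_zero, smul_zero, add_zero]
      one_mem' := ⟨one_mem _, d.map_one_eq_zero⟩
      add_mem' := by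
        rintro a b ⟨ha, ha'⟩ ⟨hb, hb'⟩
        refine ⟨add_mem ha hb, ?_⟩
        rw [show (⟨a + b, add_mem ha hb⟩ : (⊥ : Subfield k)) = ⟨a, ha⟩ + ⟨b, hb⟩ from rfl, map_add, ha', hb',
          add_zero]
      zero_mem' := ⟨zero_mem _, map_zero d⟩
      neg_mem' := by
        rintro a ⟨ha, ha'⟩
        refine ⟨neg_mem ha, ?_⟩
        rw [show (⟨-a, neg_mem ha⟩ : (⊥ : Subfield k)) = -⟨a, ha⟩ from rfl, map_neg, ha', neg_zero]
      inv_mem' := by
        rintro a ⟨ha, ha'⟩
        refine ⟨inv_mem ha, ?_⟩
        rw [show (⟨a⁻¹, inv_mem ha⟩ : (⊥ : Subfield k)) = ⟨a, ha⟩⁻¹ from rfl, Derivation.leibniz_inv, ha',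
          smul_zero] }
  obtain ⟨h, hx⟩ := (bot_le (a := S)) x.2
  exact hx

theorem subsingleton_kaehler_bot (k : Type u) [Field k] : Subsingleton Ω[(⊥ : Subfield k)⁄ℤ] := by
  refine subsingleton_of_forall_eq 0 fun w => ?_
  have hw : w ∈ Submodule.span (⊥ : Subfield k) (Set.range (D ℤ (⊥ : Subfield k))) := by
    rw [span_range_derivation]; trivial
  refine (Submodule.span_le (p := (⊥ : Submodule (⊥ : Subfield k) Ω[(⊥ : Subfield k)⁄ℤ]))).mpr ?_ hw
  rintro _ ⟨x, rfl⟩
  exact derivation_bot_eq_zero _ x

theorem bijective_map_of_subsingleton (R : Type v) (F k : Type u) [CommRing R] [CommRing F] [CommRing k] [Algebra R F]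
    [Algebra F k] [Algebra R k] [IsScalarTower R F k] [Subsingleton Ω[F⁄R]] :
    Function.Bijective (KaehlerDifferential.map R F k k) := by
  refine ⟨LinearMap.ker_eq_bot.mp ?_, KaehlerDifferential.map_surjective R F k⟩
  rw [LinearMap.exact_iff.mp (exact_mapBaseChange_map R F k), LinearMap.range_eq_bot]
  refine LinearMap.ext fun z => ?_
  induction z using TensorProduct.induction_on with
  | zero => simp
  | tmul a w => rw [Subsingleton.elim w 0, TensorProduct.tmul_zero, map_zero]; rfl
  | add p q hp hq => rw [map_add, map_add, hp, hq]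

theorem injective_of_bijective_map (R : Type v) (F k B Q : Type u) [CommRing R] [CommRing F] [CommRing k] [CommRing B]
    [AddCommGroup Q] [Module B Q] [Algebra R F] [Algebra F k] [Algebra R k] [IsScalarTower R F k]
    [Algebra k B] [Algebra R B] [IsScalarTower R k B] [Algebra F B] [IsScalarTower F k B] [IsScalarTower R F B]
    (hk : Function.Bijective (KaehlerDifferential.map R F k k))
    (hB : Function.Bijective (KaehlerDifferential.map R F B B))
    (h : Function.Injective ((mapBaseChange R k B).lTensor Q)) :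
    Function.Injective ((mapBaseChange F k B).lTensor Q) := by
  have sq : (KaehlerDifferential.map R F B B) ∘ₗ mapBaseChange R k B =
      mapBaseChange F k B ∘ₗ (KaehlerDifferential.map R F k k).baseChange B := by
    ext w
    simp [mapBaseChange_tmul, KaehlerDifferential.map_D]
  let e := LinearEquiv.ofBijective ((KaehlerDifferential.map R F k k).baseChange B)
    ⟨by
      have := (LinearEquiv.lTensor B (LinearEquiv.ofBijective _ hk)).injective
      exact this, by
      have := (LinearEquiv.lTensor B (LinearEquiv.ofBijective _ hk)).surjective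
      exact this⟩
  have hcomp : ((mapBaseChange F k B).lTensor Q) ∘ₗ (LinearEquiv.lTensor Q e).toLinearMap =
      ((KaehlerDifferential.map R F B B).lTensor Q) ∘ₗ (mapBaseChange R k B).lTensor Q := by
    rw [← LinearMap.lTensor_comp, sq, LinearMap.lTensor_comp]
    rfl
  have h1 : Function.Injective ((KaehlerDifferential.map R F B B).lTensor Q) :=
    (LinearEquiv.lTensor Q (LinearEquiv.ofBijective _ hB)).injective
  intro x y hxy
  obtain ⟨x, rfl⟩ := (LinearEquiv.lTensor Q e).surjective x
  obtain ⟨y, rfl⟩ := (LinearEquiv.lTensor Q e).surjective y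
  have h2 := LinearMap.congr_fun hcomp x
  have h3 := LinearMap.congr_fun hcomp y
  simp only [LinearMap.comp_apply, LinearEquiv.coe_coe] at h2 h3
  rw [h (h1 (h2.symm.trans (hxy.trans h3)))]

theorem isAdicFormallySmooth_of_symGr {k A : Type u} [Field k] [CommRing A] [IsLocalRing A] [Algebra k A]
    (hS : PP16.SymGrBijective A (IsLocalRing.maximalIdeal A))
    (hinj : Function.Injective
      ((mapBaseChange ℤ k A).lTensor (IsLocalRing.ResidueField A))) :
    CAlgX.IsAdicFormallySmooth k A (IsLocalRing.maximalIdeal A) := by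
  haveI := perfectField_bot k
  haveI : Algebra.FormallySmooth (⊥ : Subfield k) (A ⧸ IsLocalRing.maximalIdeal A) :=
    FieldFS.formallySmooth_of_perfectField (⊥ : Subfield k) (IsLocalRing.ResidueField A)
  haveI : Module.Projective (A ⧸ IsLocalRing.maximalIdeal A)
      (IsLocalRing.maximalIdeal A).Cotangent :=
    (inferInstance : Module.Projective (IsLocalRing.ResidueField A) (IsLocalRing.CotangentSpace A))
  haveI : Module.Projective (A ⧸ IsLocalRing.maximalIdeal A)
      ((A ⧸ IsLocalRing.maximalIdeal A) ⊗[A] Ω[A⁄k]) :=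
    (inferInstance : Module.Projective (IsLocalRing.ResidueField A) (IsLocalRing.ResidueField A ⊗[A] Ω[A⁄k]))
  haveI := subsingleton_kaehler_bot k
  have hk := bijective_map_of_subsingleton ℤ (⊥ : Subfield k) k
  have hA := bijective_map_of_subsingleton ℤ (⊥ : Subfield k) A
  exact AdicSmooth.of_jacobian (Λ := (⊥ : Subfield k)) (IsLocalRing.maximalIdeal A)
    (SymGr.isAdicFormallySmooth_of_projective_of_injective _ ((SymGr.symGrBijective_iff _).mp hS))
    (injective_of_bijective_map ℤ (⊥ : Subfield k) k A (IsLocalRing.ResidueField A) hk hA hinj)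

theorem symGr_of_isAdicFormallySmooth {k A : Type u} [Field k] [CommRing A] [IsLocalRing A] [Algebra k A]
    (h : CAlgX.IsAdicFormallySmooth k A (IsLocalRing.maximalIdeal A)) :
    PP16.SymGrBijective A (IsLocalRing.maximalIdeal A) := by
  haveI := perfectField_bot k
  haveI : Algebra.FormallySmooth (⊥ : Subfield k) (A ⧸ IsLocalRing.maximalIdeal A) :=
    FieldFS.formallySmooth_of_perfectField (⊥ : Subfield k) (IsLocalRing.ResidueField A)
  haveI : Algebra.FormallySmooth (⊥ : Subfield k) k := FieldFS.formallySmooth_of_perfectField _ _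
  have h' : CAlgX.IsAdicFormallySmooth (⊥ : Subfield k) A (IsLocalRing.maximalIdeal A) :=
    AdicSmooth.trans_discrete (A := k) (IsLocalRing.maximalIdeal A) h
  exact (SymGr.symGrBijective_iff _).mpr fun ι _ _ =>
    SymGr.canon_injective_of_isAdicFormallySmooth _ h' ι

end Groth.Agent.PrimeField
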