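/-
Adic formal smoothness over a perfect field is regularity.
-/
import Groth.Agent.Lib.AdicSmooth.PowerSeriesField
import Groth.Agent.Lib.AdicSmooth.CompleteLift
import Groth.Agent.Lib.AdicSmooth.PrimeField
import Groth.Agent.Lib.Compl.Dim
import Groth.Agent.Lib.H2Alg.PSHom
import Groth.Agent.S11741
import Groth.Agent.S9318
import Mathlib

universe u

open IsLocalRing

namespace Groth.Agent.AdicSmooth

open Groth.Agent.H2Alg

theorem sub_mem_pow_succ {Q : Type u} [CommRing Q] (M : Ideal Q) (t : Q →+* Q) (h : ∀ x, t x - x ∈ M ^ 2)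
    (j : ℕ) {x : Q} (hx : x ∈ M ^ j) : t x - x ∈ M ^ (j + 1) := by
  induction j generalizing x with
  | zero => simpa using Ideal.pow_le_self two_ne_zero (h x)
  | succ j ih =>
    rw [pow_succ] at hx
    refine Submodule.mul_induction_on hx (fun a ha b hb => ?_) fun a b ha hb => by
      rw [map_add, show t a + t b - (a + b) = (t a - a) + (t b - b) by ring]
      exact add_mem ha hb
    rw [map_mul, show t a * t b - a * b = (t a - a) * t b + a * (t b - b) by ring]
    have htb : t b ∈ M := by
      rw [show t b = (t b - b) + b by ring]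
      exact add_mem (Ideal.pow_le_self two_ne_zero (h b)) hb
    refine add_mem ?_ ?_
    · rw [pow_succ]
      exact Ideal.mul_mem_mul (ih ha) htb
    · rw [show j + 1 + 1 = j + 2 by ring, pow_add]
      exact Ideal.mul_mem_mul ha (h b)

theorem mem_maximalIdeal_of_sum_smul_eq_zero {T : Type u} [CommRing T] [IsLocalRing T] {ι : Type*}
    [Fintype ι] (b : Module.Basis ι (ResidueField T) (CotangentSpace T)) (r : ι → T)
    (h : ∑ i, r i • b i = 0) (i : ι) : r i ∈ maximalIdeal T := by
  have h0 : ∑ i, residue T (r i) • b i = 0 := by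
    rw [← h]
    exact Finset.sum_congr rfl fun i _ => algebraMap_smul (ResidueField T) (r i) (b i)
  exact (residue_eq_zero_iff _).1
    (Fintype.linearIndependent_iff.1 b.linearIndependent (fun i => residue T (r i)) h0 i)

theorem exists_powerSeries_presentation (F T : Type u) [Field F] [PerfectField F] [CommRing T]
    [IsLocalRing T] [IsNoetherianRing T] [IsAdicComplete (maximalIdeal T) T] [Algebra F T] :
    ∃ (d : ℕ) (φ : MvPowerSeries (Fin d) (ResidueField T) →ₐ[F] T),
      Function.Surjective φ ∧ (maximalIdeal (MvPowerSeries (Fin d) (ResidueField T))).map φ = maximalIdeal T ∧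
      (∀ x, φ x ∈ maximalIdeal T ^ 2 → x ∈ maximalIdeal (MvPowerSeries (Fin d) (ResidueField T)) ^ 2) ∧
      (IsRegularLocalRing T ↔ Function.Bijective φ) := by
  classical
  let κ := ResidueField T
  have : Algebra.FormallySmooth F (T ⧸ maximalIdeal T) := FieldFS.formallySmooth_of_perfectField F κ
  obtain ⟨σ, hσ⟩ := exists_lift_of_isAdicComplete (maximalIdeal T) (AlgHom.id F (T ⧸ maximalIdeal T))
  let _ : Algebra κ T := σ.toRingHom.toAlgebra
  have : IsScalarTower F κ T := IsScalarTower.of_algebraMap_eq fun r => (σ.commutes r).symm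
  have hσres : ∀ c : κ, residue T (algebraMap κ T c) = c := hσ
  let d := Module.finrank κ (CotangentSpace T)
  let b := Module.finBasis κ (CotangentSpace T)
  choose z hz using fun i => (maximalIdeal T).toCotangent_surjective (b i)
  obtain ⟨ψ, hψ⟩ := PSHom.exists_algHom (A := κ) (maximalIdeal T) (fun i => (z i : T)) fun i => (z i).2
  have hψm : ∀ i, ψ (MvPowerSeries.X i) ∈ maximalIdeal T := fun i => hψ i ▸ (z i).2
  have hb : (fun i => (maximalIdeal T).toCotangent ⟨ψ (MvPowerSeries.X i), hψm i⟩) = b := funext fun i => by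
    rw [← hz i]
    congr 1
    exact Subtype.ext (hψ i)
  have hgen : Submodule.span T (Set.range z) = ⊤ := by
    rw [← CotangentSpace.span_image_eq_top_iff (R := T), ← Set.range_comp,
      show (maximalIdeal T).toCotangent ∘ z = b from funext hz]
    exact b.span_eq
  have hV : (PSHom.V d κ).map ψ = maximalIdeal T := by
    have h2 := congrArg (Submodule.map (maximalIdeal T).subtype) hgen
    rw [Submodule.map_span, ← Set.range_comp, Submodule.map_top, Submodule.range_subtype] at h2
    rw [PSHom.V, Ideal.map_span, ← Set.range_comp]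
    rw [show (⇑ψ ∘ fun i => MvPowerSeries.X i) = (maximalIdeal T).subtype ∘ z from funext hψ]
    exact h2
  have hsurj : Function.Surjective ψ := PSHom.surjective ψ (maximalIdeal T) hV fun t =>
    ⟨residue T t, by rw [← residue_eq_zero_iff, map_sub, hσres, sub_self]⟩
  refine ⟨d, ψ.restrictScalars F, hsurj, by rw [PSHom.maximalIdeal_eq]; exact hV, fun x hx => ?_, ?_⟩
  · -- the kernel lies in the square
    have hx2 : ψ x ∈ maximalIdeal T ^ 2 := hx
    have hxM : x ∈ PSHom.V d κ := by
      rw [← PSHom.maximalIdeal_eq, mem_maximalIdeal]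
      intro hu
      exact (mem_maximalIdeal _).1 (Ideal.pow_le_self two_ne_zero hx2) (hu.map ψ)
    obtain ⟨c, hc⟩ := (Submodule.mem_span_range_iff_exists_fun _).1 hxM
    have h0 : ∑ i, ψ (c i) • b i = 0 := by
      have h1 : (maximalIdeal T).toCotangent (∑ i, ψ (c i) • z i) = 0 := by
        rw [Ideal.toCotangent_eq_zero, AddSubmonoidClass.coe_finsetSum]
        convert hx2 using 1
        rw [← hc, map_sum]
        simp [hψ]
      rw [map_sum] at h1
      refine Eq.trans (Finset.sum_congr rfl fun i _ => ?_) h1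
      rw [map_smul, hz i]
    rw [PSHom.maximalIdeal_eq, pow_two, ← hc]
    refine Ideal.sum_mem _ fun i _ => Ideal.mul_mem_mul ?_ (PSHom.X_mem i)
    rw [← PSHom.maximalIdeal_eq, mem_maximalIdeal]
    intro hu
    exact (mem_maximalIdeal _).1
      (mem_maximalIdeal_of_sum_smul_eq_zero b _ h0 i) (hu.map ψ)
  · exact Groth.Agent.S11741.result κ T (fun x => ⟨x, hσres x⟩) d ψ hψm (hb ▸ b.linearIndependent)
      (by rw [hb]; exact b.span_eq)

theorem adicFS_iff_regular_complete (F T : Type u) [Field F] [PerfectField F] [CommRing T]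
    [IsLocalRing T] [IsNoetherianRing T] [IsAdicComplete (maximalIdeal T) T] [Algebra F T] :
    (CAlgX.IsAdicFormallySmooth F T (maximalIdeal T) ↔ IsRegularLocalRing T) ∧
      (IsRegularLocalRing T → ∃ d, Nonempty (T ≃+* MvPowerSeries (Fin d) (ResidueField T))) := by
  obtain ⟨d, φ, hφ, hM, hsq, hreg⟩ := exists_powerSeries_presentation F T
  refine ⟨⟨fun h => hreg.2 ⟨?_, hφ⟩, fun hr => ?_⟩,
    fun hr => ⟨d, ⟨(RingEquiv.ofBijective φ (hreg.1 hr)).symm⟩⟩⟩
  · -- injectivity
    rw [injective_iff_map_eq_zero]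
    intro x hx
    let P := MvPowerSeries (Fin d) (ResidueField T)
    have : IsRegularLocalRing P := PSHom.isRegularLocalRing _ d
    suffices hall : ∀ n, x ∈ maximalIdeal P ^ (n + 2) by
      have : x ∈ ⨅ n, maximalIdeal P ^ n := Ideal.mem_iInf.2 fun n =>
        Ideal.pow_le_pow_right (Nat.le_add_right n 2) (hall n)
      rwa [Ideal.iInf_pow_eq_bot_of_isLocalRing _ (maximalIdeal.isMaximal P).ne_top, Ideal.mem_bot] at this
    intro n
    set N := maximalIdeal P ^ (n + 2) with hN
    have hmapN : N ≤ RingHom.ker ((Ideal.Quotient.mkₐ F (maximalIdeal T ^ (n + 2))).comp φ).toRingHom :=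
      fun y hy => Ideal.Quotient.eq_zero_iff_mem.2 (by
        rw [← hM, ← Ideal.map_pow]
        exact Ideal.mem_map_of_mem _ hy)
    let π : P ⧸ N →ₐ[F] T ⧸ maximalIdeal T ^ (n + 2) :=
      Ideal.Quotient.liftₐ N ((Ideal.Quotient.mkₐ F (maximalIdeal T ^ (n + 2))).comp φ) fun y hy => hmapN hy
    have hπ : Function.Surjective π := fun t => by
      obtain ⟨t, rfl⟩ := Ideal.Quotient.mk_surjective t
      obtain ⟨y, rfl⟩ := hφ t
      exact ⟨Ideal.Quotient.mk N y, rfl⟩
    have hkerπ : ∀ y, π (Ideal.Quotient.mk N y) = 0 → y ∈ maximalIdeal P ^ 2 := fun y hy =>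
      hsq y (Ideal.pow_le_pow_right (Nat.le_add_left 2 n) (Ideal.Quotient.eq_zero_iff_mem.1 hy))
    have hnil : IsNilpotent (RingHom.ker π) := by
      refine ⟨n + 2, le_bot_iff.1 (le_trans (Ideal.pow_right_mono
        (J := (maximalIdeal P).map (Ideal.Quotient.mk N)) (fun y hy => ?_) _) ?_)⟩
      · obtain ⟨y, rfl⟩ := Ideal.Quotient.mk_surjective y
        exact Ideal.mem_map_of_mem _ (Ideal.pow_le_self two_ne_zero (hkerπ y hy))
      · rw [← Ideal.map_pow, Ideal.map_quotient_self]
    obtain ⟨χ, hχ⟩ := exists_lift_of_surjective h π hπ hnil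
      (Ideal.Quotient.mkₐ F (maximalIdeal T ^ (n + 2))) ⟨n + 2, fun y hy => Ideal.Quotient.eq_zero_iff_mem.2 hy⟩
    let τ : P →+* P ⧸ N := (χ.comp φ).toRingHom
    have hτ : ∀ y, τ y - Ideal.Quotient.mk N y ∈ ((maximalIdeal P).map (Ideal.Quotient.mk N)) ^ 2 := fun y => by
      obtain ⟨w, hw⟩ := Ideal.Quotient.mk_surjective (τ y - Ideal.Quotient.mk N y)
      rw [← hw, ← Ideal.map_pow]
      refine Ideal.mem_map_of_mem _ (hkerπ w ?_)
      rw [hw, map_sub, show π (τ y) = Ideal.Quotient.mkₐ F _ (φ y) from AlgHom.congr_fun hχ (φ y)]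
      exact sub_self _
    have hτN : ∀ y ∈ N, τ y = 0 := by
      intro y hy
      have h1 : τ y ∈ ((maximalIdeal P).map τ) ^ (n + 2) := by
        rw [← Ideal.map_pow]
        exact Ideal.mem_map_of_mem _ hy
      have h2 : (maximalIdeal P).map τ ≤ (maximalIdeal P).map (Ideal.Quotient.mk N) := by
        refine Ideal.map_le_iff_le_comap.2 fun z hz => ?_
        have h4 := add_mem (Ideal.pow_le_self two_ne_zero (hτ z)) (Ideal.mem_map_of_mem (Ideal.Quotient.mk N) hz)
        rwa [sub_add_cancel] at h4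
      have h3 := Ideal.pow_right_mono h2 (n + 2) h1
      rwa [← Ideal.map_pow, Ideal.map_quotient_self, Ideal.mem_bot] at h3
    let t : P ⧸ N →+* P ⧸ N := Ideal.Quotient.lift N τ hτN
    have ht : ∀ q, t q - q ∈ ((maximalIdeal P).map (Ideal.Quotient.mk N)) ^ 2 := fun q => by
      obtain ⟨y, rfl⟩ := Ideal.Quotient.mk_surjective q
      exact hτ y
    have ht0 : t (Ideal.Quotient.mk N x) = 0 := by
      show χ (φ x) = 0
      rw [hx, map_zero]
    have key : ∀ j, Ideal.Quotient.mk N x ∈ ((maximalIdeal P).map (Ideal.Quotient.mk N)) ^ j := by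
      intro j
      induction j with
      | zero => simp
      | succ j ih =>
        have := sub_mem_pow_succ _ t ht j ih
        rwa [ht0, zero_sub, neg_mem_iff] at this
    have := key (n + 2)
    rw [← Ideal.map_pow, Ideal.map_quotient_self, Ideal.mem_bot, Ideal.Quotient.eq_zero_iff_mem] at this
    exact this
  · let e : MvPowerSeries (Fin d) (ResidueField T) ≃ₐ[F] T := AlgEquiv.ofBijective φ (hreg.1 hr)
    intro C _ _ J hJ u hu
    obtain ⟨k, hk⟩ := hu
    obtain ⟨v, hv⟩ := isAdicFormallySmooth_powerSeries F (ResidueField T) d C J hJ (u.comp φ)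
      ⟨k, fun y hy => hk _ (by rw [← hM, ← Ideal.map_pow]; exact Ideal.mem_map_of_mem _ hy)⟩
    refine ⟨v.comp e.symm.toAlgHom, AlgHom.ext fun y => ?_⟩
    exact (AlgHom.congr_fun hv (e.symm y)).trans (congrArg u (e.apply_symm_apply y))

/-- Over a perfect field, adic formal smoothness of a Noetherian local ring is regularity. -/
theorem adicFS_iff_regular (F A : Type u) [Field F] [PerfectField F] [CommRing A]
    [IsLocalRing A] [IsNoetherianRing A] [Algebra F A] :
    CAlgX.IsAdicFormallySmooth F A (maximalIdeal A) ↔ IsRegularLocalRing A := by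
  have := Groth.Agent.Compl.isNoetherianRing_maximalIdeal_adicCompletion A
  rw [Groth.Agent.Compl.isRegularLocalRing_adicCompletion_iff A,
    ← (adicFS_iff_regular_complete F (AdicCompletion (maximalIdeal A) A)).1,
    Groth.Agent.S9318.result (R := F) (maximalIdeal A) (IsNoetherian.noetherian _),
    AdicCompletion.maximalIdeal_eq_map]

theorem isAdicFormallySmooth_bot {k A : Type u} [Field k] [CommRing A] [IsLocalRing A] [Algebra k A]
    (h : CAlgX.IsAdicFormallySmooth k A (maximalIdeal A)) :
    CAlgX.IsAdicFormallySmooth (⊥ : Subfield k) A (maximalIdeal A) := by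
  have := Groth.Agent.PrimeField.perfectField_bot k
  have : Algebra.FormallySmooth (⊥ : Subfield k) k := FieldFS.formallySmooth_of_perfectField _ _
  exact trans_discrete (A := k) (maximalIdeal A) h

/-- Adically formally smooth local algebras over a field are regular. -/
theorem isRegularLocalRing_of_adicFS {k A : Type u} [Field k] [CommRing A] [IsLocalRing A] [IsNoetherianRing A]
    [Algebra k A] (h : CAlgX.IsAdicFormallySmooth k A (maximalIdeal A)) : IsRegularLocalRing A :=
  have := Groth.Agent.PrimeField.perfectField_bot k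
  (adicFS_iff_regular (⊥ : Subfield k) A).1 (isAdicFormallySmooth_bot h)

end Groth.Agent.AdicSmooth

namespace Groth.Agent.AdicSmooth

open TensorProduct

/-- Adic formal smoothness passes to the local rings of a finite base change. -/
theorem adicFS_localization_baseChange {k A : Type u} [Field k] [CommRing A] [IsLocalRing A] [Algebra k A]
    (h : CAlgX.IsAdicFormallySmooth k A (maximalIdeal A)) (K : Type u) [Field K] [Algebra k K]
    (M : Ideal (K ⊗[k] A)) [M.IsPrime]
    (hM : M.comap (Algebra.TensorProduct.includeRight : A →ₐ[k] K ⊗[k] A) = maximalIdeal A) :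
    CAlgX.IsAdicFormallySmooth K (Localization.AtPrime M) (maximalIdeal (Localization.AtPrime M)) := by
  intro C _ _ J hJ ψ hk
  obtain ⟨n, hn⟩ := hk
  let _ : Algebra k C := ((algebraMap K C).comp (algebraMap k K)).toAlgebra
  have : IsScalarTower k K C := IsScalarTower.of_algebraMap_eq fun r => rfl
  let inA : A →ₐ[k] K ⊗[k] A := Algebra.TensorProduct.includeRight
  let loc : (K ⊗[k] A) →ₐ[K] Localization.AtPrime M := IsScalarTower.toAlgHom K _ _
  let ψ₀ : A →ₐ[k] C ⧸ J := ((ψ.comp loc).restrictScalars k).comp inA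
  obtain ⟨χ₀, hχ₀⟩ := h C J hJ ψ₀ ⟨n, fun x hx => hn _ (by
    have h1 : (maximalIdeal A).map ((algebraMap (K ⊗[k] A) (Localization.AtPrime M)).comp inA.toRingHom) ≤
        maximalIdeal (Localization.AtPrime M) := by
      refine Ideal.map_le_iff_le_comap.2 fun y hy => ?_
      rw [Ideal.mem_comap, RingHom.comp_apply, IsLocalization.AtPrime.to_map_mem_maximal_iff _ M]
      rw [← hM] at hy
      exact hy
    refine Ideal.pow_right_mono h1 n ?_
    rw [← Ideal.map_pow]
    exact Ideal.mem_map_of_mem ((algebraMap (K ⊗[k] A) (Localization.AtPrime M)).comp inA.toRingHom) hx)⟩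
  let χ : K ⊗[k] A →ₐ[K] C := Algebra.TensorProduct.lift (Algebra.ofId K C) χ₀ fun _ _ => Commute.all _ _
  have hχ : (Ideal.Quotient.mkₐ K J).comp χ = ψ.comp loc := by
    refine Algebra.TensorProduct.ext (Subsingleton.elim _ _) (AlgHom.ext fun a => ?_)
    show Ideal.Quotient.mk J (χ (1 ⊗ₜ a)) = ψ (loc (inA a))
    rw [Algebra.TensorProduct.lift_tmul, map_one, one_mul]
    exact AlgHom.congr_fun hχ₀ a
  have hu : ∀ s : M.primeCompl, IsUnit (χ s.1) := fun s => by
    have h1 : IsUnit (Ideal.Quotient.mk J (χ s.1)) := by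
      rw [show Ideal.Quotient.mk J (χ s.1) = ψ (loc s.1) from AlgHom.congr_fun hχ s.1]
      exact (IsLocalization.map_units (Localization.AtPrime M) s).map ψ
    obtain ⟨c, hc⟩ := h1.exists_right_inv
    obtain ⟨c, rfl⟩ := Ideal.Quotient.mk_surjective c
    have h2 : χ s.1 * c - 1 ∈ J := by
      rw [← Ideal.Quotient.eq_zero_iff_mem, map_sub, map_mul, hc, map_one, sub_self]
    have h3 : (χ s.1 * c - 1) * (χ s.1 * c - 1) = 0 := by
      have := Ideal.mul_mem_mul h2 h2
      rwa [← pow_two, hJ] at this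
    exact IsUnit.of_mul_eq_one (c * (1 - (χ s.1 * c - 1))) (by linear_combination -h3)
  refine ⟨IsLocalization.liftAlgHom (f := χ) hu, IsLocalization.algHom_ext M.primeCompl (AlgHom.ext fun x => ?_)⟩
  show Ideal.Quotient.mk J (IsLocalization.liftAlgHom (f := χ) hu (algebraMap _ _ x)) = ψ (loc x)
  rw [IsLocalization.liftAlgHom_apply, IsLocalization.lift_eq]
  exact AlgHom.congr_fun hχ x

end Groth.Agent.AdicSmooth
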