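/-
Reducing adic formal smoothness of local rings to lifting along small extensions of local rings.
-/
import Groth.Agent.Lib.AdicSmooth.Basic
import Mathlib

universe u

namespace Groth.Agent.AdicSmooth

open IsLocalRing

section Pullback

variable {R A B C : Type u} [CommRing R] [CommRing A] [CommRing B] [CommRing C] [Algebra R A] [Algebra R B]
  [Algebra R C]

/-- The fibre product of algebras. -/
def pullbackAlg (f : A →ₐ[R] C) (g : B →ₐ[R] C) : Subalgebra R (A × B) :=
  AlgHom.equalizer (f.comp (AlgHom.fst R A B)) (g.comp (AlgHom.snd R A B))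

theorem mem_pullbackAlg (f : A →ₐ[R] C) (g : B →ₐ[R] C) {x : A × B} :
    x ∈ pullbackAlg f g ↔ f x.1 = g x.2 := Iff.rfl

variable (f : A →ₐ[R] C) (g : B →ₐ[R] C)

def pullFst : pullbackAlg f g →ₐ[R] A := (AlgHom.fst R A B).comp (pullbackAlg f g).val

def pullSnd : pullbackAlg f g →ₐ[R] B := (AlgHom.snd R A B).comp (pullbackAlg f g).val

theorem pullSnd_surjective (hf : Function.Surjective f) : Function.Surjective (pullSnd f g) := fun b => by
  obtain ⟨a, ha⟩ := hf (g b)
  exact ⟨⟨(a, b), ha⟩, rfl⟩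

theorem mul_pullSnd_ker (hJ : ∀ x y : A, f x = 0 → f y = 0 → x * y = 0) (x y : pullbackAlg f g)
    (hx : pullSnd f g x = 0) (hy : pullSnd f g y = 0) : x * y = 0 := by
  have hx' : x.1.2 = 0 := hx
  have hy' : y.1.2 = 0 := hy
  refine Subtype.ext (Prod.ext (hJ _ _ ?_ ?_) ?_)
  · rw [show f x.1.1 = g x.1.2 from x.2, hx', map_zero]
  · rw [show f y.1.1 = g y.1.2 from y.2, hy', map_zero]
  · show x.1.2 * y.1.2 = 0
    rw [hx', zero_mul]

end Pullback

theorem isLocalRing_of_sq_zero_surjective {E B : Type u} [CommRing E] [CommRing B] [IsLocalRing B]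
    (π : E →+* B) (hπ : Function.Surjective π) (hK : ∀ x y : E, π x = 0 → π y = 0 → x * y = 0) :
    IsLocalRing E := by
  have hunit : ∀ e, IsUnit (π e) → IsUnit e := by
    intro e he
    obtain ⟨c, hc⟩ := he.exists_right_inv
    obtain ⟨d, rfl⟩ := hπ c
    have h : π (e * d - 1) = 0 := by rw [map_sub, map_mul, hc, map_one, sub_self]
    refine IsUnit.of_mul_eq_one (d * (1 - (e * d - 1))) ?_
    linear_combination -(hK _ _ h h)
  have : Nontrivial E := π.domain_nontrivial
  refine IsLocalRing.of_isUnit_or_isUnit_one_sub_self fun e => ?_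
  rcases IsLocalRing.isUnit_or_isUnit_one_sub_self (π e) with h | h
  · exact Or.inl (hunit e h)
  · exact Or.inr (hunit _ (by rwa [map_sub, map_one]))

theorem residueFieldMap_bijective_of_surjective {S B : Type u} [CommRing S] [CommRing B] [IsLocalRing S]
    [IsLocalRing B] (f : S →+* B) [IsLocalHom f] (hf : Function.Surjective f) :
    Function.Bijective (ResidueField.map f) := by
  refine ⟨(ResidueField.map f).injective, fun z => ?_⟩
  obtain ⟨b, rfl⟩ := IsLocalRing.residue_surjective z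
  obtain ⟨s, rfl⟩ := hf b
  exact ⟨residue S s, ResidueField.map_residue f s⟩

/-- The lifting property along small extensions of Artinian local rings. -/
def SmallLifts (R S : Type u) [CommRing R] [CommRing S] [IsLocalRing R] [IsLocalRing S] [Algebra R S] : Prop :=
  ∀ (A : Type u) [CommRing A] [IsLocalRing A] [IsArtinianRing A] [Algebra R A]
    [IsLocalHom (algebraMap R A)] (J : Ideal A), J ^ 2 = ⊥ → Module.length A J = 1 →
    ∀ [IsLocalRing (A ⧸ J)] (ψ : S →ₐ[R] A ⧸ J) [IsLocalHom ψ.toRingHom],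
      Function.Bijective (ResidueField.map ψ.toRingHom) →
      ∃ χ : S →ₐ[R] A, (Ideal.Quotient.mkₐ R J).comp χ = ψ

variable {R S : Type u} [CommRing R] [CommRing S] [IsLocalRing R] [IsLocalRing S] [Algebra R S]
  [IsLocalHom (algebraMap R S)]

/-- Lifting to an extension with one-dimensional kernel. -/
theorem exists_lift_small (h : SmallLifts R S) {E B : Type u} [CommRing E] [Algebra R E] [CommRing B]
    [Algebra R B] [IsLocalRing B] [IsArtinianRing B] (σ : S →ₐ[R] B) (hσ : Function.Surjective σ)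
    (π : E →ₐ[R] B) (hπ : Function.Surjective π) (hsq : RingHom.ker π.toRingHom ^ 2 = ⊥)
    (hlen : Module.length E (RingHom.ker π.toRingHom) = 1) :
    ∃ χ : S →ₐ[R] E, π.comp χ = σ := by
  set K := RingHom.ker π.toRingHom with hK
  have : IsLocalRing E := isLocalRing_of_sq_zero_surjective π.toRingHom hπ fun x y hx hy => by
    have : x * y ∈ K ^ 2 := by rw [pow_two]; exact Ideal.mul_mem_mul hx hy
    rwa [hsq] at this
  have : IsSimpleModule E K := Module.length_eq_one_iff.1 hlen
  let _ : Algebra E B := π.toRingHom.toAlgebra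
  have : IsArtinian E B := isArtinian_of_surjective_algebraMap (S := E) (R := B) (M := B) hπ
  have : IsArtinianRing E := by
    refine isArtinian_of_range_eq_ker (K.subtype : K →ₗ[E] E) (Algebra.linearMap E B) ?_
    rw [Submodule.range_subtype]
    rfl
  have : IsLocalHom σ.toRingHom := IsLocalHom.of_surjective _ hσ
  have : IsLocalHom π.toRingHom := IsLocalHom.of_surjective _ hπ
  have : IsLocalHom (algebraMap R E) := ⟨fun r hr => by
    have h1 : IsUnit (σ (algebraMap R S r)) := by
      rw [σ.commutes, ← π.commutes]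
      exact hr.map π
    exact (isUnit_map_iff (algebraMap R S) r).1 ((isUnit_map_iff σ.toRingHom _).1 h1)⟩
  let e : (E ⧸ K) ≃ₐ[R] B := Ideal.quotientKerAlgEquivOfSurjective hπ
  have : IsLocalRing (E ⧸ K) := e.symm.toRingEquiv.isLocalRing
  let ψ : S →ₐ[R] E ⧸ K := e.symm.toAlgHom.comp σ
  have hψ : Function.Surjective ψ := e.symm.surjective.comp hσ
  have : IsLocalHom ψ.toRingHom := IsLocalHom.of_surjective _ hψ
  obtain ⟨χ, hχ⟩ := h E K hsq hlen ψ (residueFieldMap_bijective_of_surjective _ hψ)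
  refine ⟨χ, AlgHom.ext fun s => ?_⟩
  have h1 := congrArg e (AlgHom.congr_fun hχ s)
  simp only [ψ, AlgHom.comp_apply, AlgEquiv.coe_toAlgHom, AlgEquiv.apply_symm_apply] at h1
  exact h1

/-- Lifting to an extension whose kernel is killed by the maximal ideal. -/
theorem exists_lift_killed (h : SmallLifts R S) {E B : Type u} [CommRing E] [Algebra R E] [CommRing B]
    [Algebra R B] [IsLocalRing B] [IsArtinianRing B] (σ : S →ₐ[R] B) (hσ : Function.Surjective σ)
    (π : E →ₐ[R] B) (hπ : Function.Surjective π)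
    (hsq : ∀ x y : E, π x = 0 → π y = 0 → x * y = 0)
    (hkill : ∀ e j : E, π j = 0 → π e ∈ maximalIdeal B → e * j = 0) :
    ∃ χ : S →ₐ[R] E, π.comp χ = σ := by
  classical
  have : IsLocalHom σ.toRingHom := IsLocalHom.of_surjective _ hσ
  let P := MvPolynomial S R
  let ε : P →ₐ[R] S := MvPolynomial.aeval (id : S → S)
  have hε : Function.Surjective ε := fun s => ⟨MvPolynomial.X s, MvPolynomial.aeval_X _ _⟩
  choose sec hsec using fun s => hπ (σ s)
  let v : P →ₐ[R] E := MvPolynomial.aeval sec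
  have hv : π.comp v = σ.comp ε := MvPolynomial.algHom_ext fun s => by
    simp [v, ε, hsec]
  let I : Ideal P := RingHom.ker ε.toRingHom
  let Q : Ideal P := (maximalIdeal S).comap ε.toRingHom
  have : Q.IsMaximal := Ideal.comap_isMaximal_of_surjective ε.toRingHom hε
  let _ : Field (P ⧸ Q) := Ideal.Quotient.field Q
  let _ : Algebra P E := v.toRingHom.toAlgebra
  let K : Submodule P E := (RingHom.ker π.toRingHom).restrictScalars P
  have hQK : Module.IsTorsionBySet P K (Q : Set P) := fun j q => Subtype.ext <| by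
    show v q.1 * j.1 = 0
    refine hkill _ _ j.2 ?_
    rw [← AlgHom.comp_apply, hv]
    intro hu
    exact q.2 ((isUnit_map_iff σ.toRingHom _).1 hu)
  let _ : Module (P ⧸ Q) K := hQK.module
  have : IsScalarTower P (P ⧸ Q) K := hQK.isScalarTower
  let Δ : Derivation R P (S →₀ (P ⧸ Q)) :=
    MvPolynomial.mkDerivation R fun s => Finsupp.single s 1
  -- perturbing `v` by a derivation
  have hpert : ∀ (F : (S →₀ (P ⧸ Q)) →ₗ[P ⧸ Q] K) (p : P),
      MvPolynomial.aeval (fun s => sec s + (F (Finsupp.single s 1)).1) p = v p + (F (Δ p)).1 := by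
    intro F p
    induction p using MvPolynomial.induction_on with
    | C r =>
      have : Δ (MvPolynomial.C r) = 0 := Δ.map_algebraMap r
      rw [this, map_zero, Submodule.coe_zero, add_zero]
      exact (MvPolynomial.aeval_C _ _).trans (MvPolynomial.aeval_C _ _).symm
    | add p q hp hq => simp only [map_add, hp, hq, Submodule.coe_add]; abel
    | mul_X p s hp =>
      have hl : F.restrictScalars P (p • Δ (MvPolynomial.X (R := R) s) + MvPolynomial.X (R := R) s • Δ p) =
          p • F (Δ (MvPolynomial.X (R := R) s)) + MvPolynomial.X (R := R) s • F (Δ p) := by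
        rw [map_add, map_smul, map_smul]
        rfl
      have hX : Δ (MvPolynomial.X s) = Finsupp.single s 1 := MvPolynomial.mkDerivation_X R _ s
      have h1 : (F (Δ (p * MvPolynomial.X s))).1 =
          v p * (F (Finsupp.single s 1)).1 + sec s * (F (Δ p)).1 := by
        rw [Δ.leibniz, ← hX]
        refine (congrArg Subtype.val hl).trans ?_
        show v p * _ + v (MvPolynomial.X s) * _ = _
        rw [show v (MvPolynomial.X s) = sec s from MvPolynomial.aeval_X _ _, hX]
      have h2 := hsq _ _ (F (Δ p)).2 (F (Finsupp.single s 1)).2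
      rw [map_mul, MvPolynomial.aeval_X, hp, h1, map_mul, show v (MvPolynomial.X s) = sec s from MvPolynomial.aeval_X _ _]
      linear_combination h2
  have hI : ∀ p ∈ I, π (v p) = 0 := fun p hp => by
    rw [← AlgHom.comp_apply, hv, AlgHom.comp_apply, show ε p = 0 from hp, map_zero]
  have hIQ : I ≤ Q := fun p hp => by
    show ε p ∈ maximalIdeal S
    rw [show ε p = 0 from hp]
    exact zero_mem _
  -- the two linear maps on the ideal of relations
  let d : I →ₗ[P] (S →₀ (P ⧸ Q)) :=
    { toFun := fun p => Δ p.1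
      map_add' := fun p q => map_add Δ p.1 q.1
      map_smul' := fun a p => by
        show Δ (a * p.1) = a • Δ p.1
        rw [Δ.leibniz]
        have : (p.1 : P) • Δ a = 0 := by
          rw [← algebraMap_smul (P ⧸ Q) p.1, Ideal.Quotient.algebraMap_eq,
            Ideal.Quotient.eq_zero_iff_mem.2 (hIQ p.2), zero_smul]
        rw [this, add_zero] }
  let φ : I →ₗ[P] K :=
    { toFun := fun p => ⟨v p.1, hI _ p.2⟩
      map_add' := fun p q => Subtype.ext (map_add v p.1 q.1)
      map_smul' := fun a p => Subtype.ext (map_mul v a p.1) }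
  -- relations with vanishing differential map to zero, by the small extensions
  have hker : ∀ p : I, d p = 0 → φ p = 0 := by
    intro p hp
    by_contra hne
    obtain ⟨ℓ, hℓ⟩ := Module.Projective.exists_dual_eq_one (P ⧸ Q) hne
    let N : Ideal E :=
      { carrier := {x | ∃ hx : x ∈ K, ℓ ⟨x, hx⟩ = 0}
        add_mem' := fun {x y} ⟨hx, hx0⟩ ⟨hy, hy0⟩ => ⟨add_mem hx hy, by
          show ℓ (⟨x, hx⟩ + ⟨y, hy⟩) = 0
          rw [map_add, hx0, hy0, add_zero]⟩
        zero_mem' := ⟨zero_mem _, map_zero ℓ⟩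
        smul_mem' := fun c x ⟨hx, hx0⟩ => by
          obtain ⟨s, hs⟩ := hσ (π c)
          obtain ⟨q, hq⟩ := hε s
          have hc : π (c - v q) = 0 := by
            rw [map_sub, ← AlgHom.comp_apply π v, hv, AlgHom.comp_apply, hq, hs, sub_self]
          have heq : c • x = v q * x := by
            have := hsq _ _ hc hx
            rw [sub_mul, sub_eq_zero] at this
            exact this
          have hmem : c • x ∈ K := by
            show π (c * x) = 0
            rw [map_mul, show π x = 0 from hx, mul_zero]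
          refine ⟨hmem, ?_⟩
          have h2 : (⟨c • x, hmem⟩ : K) = q • ⟨x, hx⟩ := Subtype.ext heq
          rw [h2, ← algebraMap_smul (P ⧸ Q) q, map_smul, hx0, smul_zero] }
    have hNK : N ≤ RingHom.ker π.toRingHom := fun x hx => Exists.elim hx fun h _ => h
    let π₁ : E ⧸ N →ₐ[R] B := Ideal.Quotient.liftₐ N π fun x hx => hNK hx
    have hπ₁ : Function.Surjective π₁ := fun b => by
      obtain ⟨e, rfl⟩ := hπ b
      exact ⟨Ideal.Quotient.mk N e, rfl⟩
    have hker₁ : ∀ x, π₁ x = 0 → ∃ j : K, Ideal.Quotient.mk N j.1 = x := fun x hx => by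
      obtain ⟨e, rfl⟩ := Ideal.Quotient.mk_surjective x
      exact ⟨⟨e, hx⟩, rfl⟩
    have hsq₁ : RingHom.ker π₁.toRingHom ^ 2 = ⊥ := by
      rw [pow_two, eq_bot_iff, Ideal.mul_le]
      intro x hx y hy
      obtain ⟨a, rfl⟩ := hker₁ x hx
      obtain ⟨b, rfl⟩ := hker₁ y hy
      rw [← map_mul, hsq _ _ a.2 b.2, map_zero]
      exact Submodule.zero_mem _
    have hmk0 : Ideal.Quotient.mk N (φ p).1 ≠ 0 := fun h0 => by
      obtain ⟨_, h1⟩ := Ideal.Quotient.eq_zero_iff_mem.1 h0
      exact one_ne_zero (hℓ.symm.trans h1)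
    have hlen₁ : Module.length (E ⧸ N) (RingHom.ker π₁.toRingHom) = 1 := by
      rw [Module.length_eq_one_iff, isSimpleModule_iff_toSpanSingleton_surjective]
      refine ⟨⟨⟨⟨_, show π₁ (Ideal.Quotient.mk N (φ p).1) = 0 from (φ p).2⟩, 0, fun h0 =>
        hmk0 (congrArg Subtype.val h0)⟩⟩, fun m hm y => ?_⟩
      obtain ⟨a, ha⟩ := hker₁ m.1 m.2
      obtain ⟨b, hb⟩ := hker₁ y.1 y.2
      have hla : ℓ a ≠ 0 := fun h0 => hm (Subtype.ext (ha.symm.trans
        (Ideal.Quotient.eq_zero_iff_mem.2 ⟨a.2, h0⟩)))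
      obtain ⟨c, hc⟩ := Ideal.Quotient.mk_surjective (ℓ b * (ℓ a)⁻¹)
      refine ⟨Ideal.Quotient.mk N (v c), Subtype.ext ?_⟩
      show Ideal.Quotient.mk N (v c) * m.1 = y.1
      rw [← ha, ← hb, ← map_mul, Ideal.Quotient.eq]
      refine ⟨K.sub_mem (c • a).2 b.2, ?_⟩
      show ℓ (c • a - b) = 0
      rw [map_sub, ← algebraMap_smul (P ⧸ Q) c, map_smul, Ideal.Quotient.algebraMap_eq, hc, smul_eq_mul,
        inv_mul_cancel_right₀ hla, sub_self]
    obtain ⟨χ, hχ⟩ := exists_lift_small h σ hσ π₁ hπ₁ hsq₁ hlen₁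
    choose f hf using fun s : S => hker₁ (χ s - Ideal.Quotient.mk N (sec s)) (by
      rw [map_sub, ← AlgHom.comp_apply, hχ, show π₁ (Ideal.Quotient.mk N (sec s)) = π (sec s) from rfl,
        hsec, sub_self])
    let F := Finsupp.linearCombination (P ⧸ Q) f
    have hcomp : (Ideal.Quotient.mkₐ R N).comp
        (MvPolynomial.aeval fun s => sec s + (F (Finsupp.single s 1)).1) = χ.comp ε := by
      refine MvPolynomial.algHom_ext fun s => ?_
      simp [F, ε, hf]
    have h0 := AlgHom.congr_fun hcomp p.1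
    rw [AlgHom.comp_apply, hpert, AlgHom.comp_apply, show ε p.1 = 0 from p.2, map_zero,
      show Δ p.1 = 0 from hp, map_zero, Submodule.coe_zero, add_zero] at h0
    exact hmk0 h0
  -- factor `φ` through `d` and extend
  let U : Submodule (P ⧸ Q) (S →₀ (P ⧸ Q)) :=
    { (LinearMap.range d).toAddSubmonoid with
      smul_mem' := fun c x hx => by
        obtain ⟨a, rfl⟩ := Ideal.Quotient.mk_surjective c
        rw [← Ideal.Quotient.algebraMap_eq, algebraMap_smul]
        exact (LinearMap.range d).smul_mem a hx }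
  let G := ((LinearMap.ker d).liftQ φ fun p hp => hker p hp).comp
    d.quotKerEquivRange.symm.toLinearMap
  have hG : ∀ p : I, G ⟨d p, p, rfl⟩ = φ p := fun p => by
    have : d.quotKerEquivRange.symm ⟨d p, p, rfl⟩ = Submodule.Quotient.mk p := by
      rw [LinearEquiv.symm_apply_eq]
      rfl
    exact congrArg ((LinearMap.ker d).liftQ φ fun p hp => hker p hp) this
  let G' : U →ₗ[P ⧸ Q] K :=
    { toFun := fun x => - G ⟨x.1, x.2⟩
      map_add' := fun x y => by
        rw [← neg_add, ← map_add]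
        rfl
      map_smul' := fun c x => by
        obtain ⟨a, rfl⟩ := Ideal.Quotient.mk_surjective c
        refine Eq.trans ?_ (algebraMap_smul (P ⧸ Q) a (- G ⟨x.1, x.2⟩)).symm
        rw [smul_neg, ← map_smul]
        congr 2 }
  obtain ⟨F, hF⟩ := G'.exists_extend
  let w : P →ₐ[R] E := MvPolynomial.aeval fun s => sec s + (F (Finsupp.single s 1)).1
  have hw : ∀ p ∈ I, w p = 0 := fun p hp => by
    have h1 : F (Δ p) = - φ ⟨p, hp⟩ := by
      rw [← hG ⟨p, hp⟩]
      exact LinearMap.congr_fun hF ⟨d ⟨p, hp⟩, ⟨p, hp⟩, rfl⟩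
    show MvPolynomial.aeval _ p = 0
    rw [hpert, h1, Submodule.coe_neg]
    exact add_neg_cancel _
  refine ⟨(Ideal.Quotient.liftₐ I w hw).comp
    (Ideal.quotientKerAlgEquivOfSurjective hε).symm.toAlgHom, AlgHom.ext fun s => ?_⟩
  obtain ⟨p, rfl⟩ := hε s
  have hs : (Ideal.quotientKerAlgEquivOfSurjective hε).symm (ε p) = Ideal.Quotient.mk _ p := by
    rw [AlgEquiv.symm_apply_eq]
    rfl
  show π (Ideal.Quotient.liftₐ I w hw ((Ideal.quotientKerAlgEquivOfSurjective hε).symm (ε p))) = _
  rw [hs]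
  show π (MvPolynomial.aeval _ p) = σ (ε p)
  rw [hpert, map_add, show π (F (Δ p)).1 = 0 from (F (Δ p)).2, add_zero]
  exact AlgHom.congr_fun hv p

/-- Lifting along a square-zero ideal killed by a power of the maximal ideal. -/
theorem exists_lift_of_smallLifts [IsNoetherianRing S] (h : SmallLifts R S) (i : ℕ) :
    ∀ {A : Type u} [CommRing A] [Algebra R A] (J : Ideal A), J ^ 2 = ⊥ → ∀ ψ : S →ₐ[R] A ⧸ J,
      (∃ k : ℕ, ∀ x ∈ maximalIdeal S ^ k, ψ x = 0) →
      (∀ x ∈ maximalIdeal S ^ i, ∀ a : A, Ideal.Quotient.mk J a = ψ x → ∀ j ∈ J, a * j = 0) →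
      ∃ χ : S →ₐ[R] A, (Ideal.Quotient.mkₐ R J).comp χ = ψ := by
  induction i with
  | zero =>
    intro A _ _ J _ ψ _ hkill
    have hJ : J = ⊥ := eq_bot_iff.2 fun j hj => by
      simpa using hkill 1 (by simp) 1 (by simp) j hj
    subst hJ
    exact ⟨(AlgEquiv.quotientBot R A).toAlgHom.comp ψ, AlgHom.ext fun x => (AlgEquiv.quotientBot R A).symm_apply_apply (ψ x)⟩
  | succ i ih =>
    intro A _ _ J hJ ψ hk hkill
    let K : Ideal A := Ideal.span {z | ∃ x ∈ maximalIdeal S, ∃ a, Ideal.Quotient.mk J a = ψ x ∧ ∃ j ∈ J, z = a * j}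
    have hKJ : K ≤ J := Ideal.span_le.2 fun z ⟨x, _, a, _, j, hj, hz⟩ => hz ▸ J.mul_mem_left a hj
    -- step to `A ⧸ K`
    obtain ⟨χ₁, hχ₁, hχ₁k⟩ : ∃ χ₁ : S →ₐ[R] A ⧸ K,
        (∀ x a, Ideal.Quotient.mk K a = χ₁ x → Ideal.Quotient.mk J a = ψ x) ∧
        ∃ k : ℕ, ∀ x ∈ maximalIdeal S ^ k, χ₁ x = 0 := by
      obtain ⟨k, hk⟩ := hk
      have hk' : ∀ x ∈ maximalIdeal S ^ (k + 1), ψ x = 0 := fun x hx => hk x (Ideal.pow_le_pow_right (Nat.le_succ k) hx)
      let B := S ⧸ maximalIdeal S ^ (k + 1)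
      have : Nontrivial B := Ideal.Quotient.nontrivial_iff.2 fun h1 =>
        (maximalIdeal.isMaximal S).ne_top (top_le_iff.1 (h1 ▸ Ideal.pow_le_self k.succ_ne_zero))
      have : IsLocalRing B := IsLocalRing.of_surjective' _ Ideal.Quotient.mk_surjective
      have : IsLocalHom (Ideal.Quotient.mk (maximalIdeal S ^ (k + 1))) :=
        IsLocalHom.of_surjective _ Ideal.Quotient.mk_surjective
      have : IsArtinianRing B := by
        refine (isArtinianRing_iff_isNilpotent_maximalIdeal B).2 ⟨k + 1, ?_⟩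
        have hm : maximalIdeal B = (maximalIdeal S).map (Ideal.Quotient.mk _) :=
          ((IsLocalRing.map_maximalIdeal_of_surjective _ Ideal.Quotient.mk_surjective)).symm
        rw [hm, ← Ideal.map_pow, Ideal.map_quotient_self]
        rfl
      let ψB : B →ₐ[R] A ⧸ J := Ideal.Quotient.liftₐ _ ψ hk'
      let f : A ⧸ K →ₐ[R] A ⧸ J := Ideal.Quotient.factorₐ R hKJ
      have hf : Function.Surjective f := fun z => by
        obtain ⟨a, rfl⟩ := Ideal.Quotient.mk_surjective z
        exact ⟨Ideal.Quotient.mk K a, rfl⟩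
      have hsq : ∀ x y, f x = 0 → f y = 0 → x * y = 0 := by
        intro x y hx hy
        obtain ⟨a, rfl⟩ := Ideal.Quotient.mk_surjective x
        obtain ⟨b, rfl⟩ := Ideal.Quotient.mk_surjective y
        have : a * b ∈ J ^ 2 := by
          rw [pow_two]
          exact Ideal.mul_mem_mul (Ideal.Quotient.eq_zero_iff_mem.1 hx) (Ideal.Quotient.eq_zero_iff_mem.1 hy)
        rw [hJ, Ideal.mem_bot] at this
        rw [← map_mul, this, map_zero]
      have hkill₁ : ∀ e j, pullSnd f ψB j = 0 → pullSnd f ψB e ∈ maximalIdeal B → e * j = 0 := by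
        intro e j hj he
        obtain ⟨x, hx⟩ := Ideal.Quotient.mk_surjective (pullSnd f ψB e)
        have hxm : x ∈ maximalIdeal S := fun hu => he (hx ▸ hu.map _)
        obtain ⟨a, ha⟩ := Ideal.Quotient.mk_surjective e.1.1
        obtain ⟨b, hb⟩ := Ideal.Quotient.mk_surjective j.1.1
        have hea : Ideal.Quotient.mk J a = ψ x := by
          have h1 : f e.1.1 = ψB e.1.2 := e.2
          rw [← ha, show e.1.2 = pullSnd f ψB e from rfl, ← hx] at h1
          exact h1
        have hbJ : b ∈ J := by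
          have h1 : f j.1.1 = ψB j.1.2 := j.2
          rw [← hb, show j.1.2 = pullSnd f ψB j from rfl, hj, map_zero] at h1
          exact Ideal.Quotient.eq_zero_iff_mem.1 h1
        refine Subtype.ext (Prod.ext ?_ ?_)
        · show e.1.1 * j.1.1 = 0
          rw [← ha, ← hb, ← map_mul, Ideal.Quotient.eq_zero_iff_mem]
          exact Ideal.subset_span ⟨x, hxm, a, hea, b, hbJ, rfl⟩
        · show pullSnd f ψB e * pullSnd f ψB j = 0
          rw [hj, mul_zero]
      obtain ⟨χ, hχ⟩ := exists_lift_killed h (Ideal.Quotient.mkₐ R _) Ideal.Quotient.mk_surjective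
        (pullSnd f ψB) (pullSnd_surjective f ψB hf) (mul_pullSnd_ker f ψB hsq) hkill₁
      refine ⟨(pullFst f ψB).comp χ, fun x a ha => ?_, (k + 1) * 2, fun x hx => ?_⟩
      · have h1 : f ((pullFst f ψB).comp χ x) = ψB (pullSnd f ψB (χ x)) := (χ x).2
        rw [← ha, ← AlgHom.comp_apply (pullSnd f ψB) χ, hχ] at h1
        exact h1
      · have hle : (maximalIdeal S ^ (k + 1)).map χ.toRingHom ≤ RingHom.ker (pullSnd f ψB).toRingHom :=
          Ideal.map_le_iff_le_comap.2 fun y hy => by
            show pullSnd f ψB (χ y) = 0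
            rw [← AlgHom.comp_apply, hχ]
            exact Ideal.Quotient.eq_zero_iff_mem.2 hy
        have h2 : χ x ∈ RingHom.ker (pullSnd f ψB).toRingHom ^ 2 := by
          refine Ideal.pow_right_mono hle 2 ?_
          rw [← Ideal.map_pow, ← pow_mul]
          exact Ideal.mem_map_of_mem _ hx
        have h3 : RingHom.ker (pullSnd f ψB).toRingHom ^ 2 = ⊥ := by
          rw [pow_two, eq_bot_iff, Ideal.mul_le]
          exact fun a ha b hb => Ideal.mem_bot.2 (mul_pullSnd_ker f ψB hsq a b ha hb)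
        rw [h3, Ideal.mem_bot] at h2
        show pullFst f ψB (χ x) = 0
        rw [h2, map_zero]
    have hK2 : K ^ 2 = ⊥ := le_bot_iff.1 ((Ideal.pow_right_mono hKJ 2).trans hJ.le)
    obtain ⟨χ, hχ⟩ := ih K hK2 χ₁ hχ₁k fun x hx a ha z hz => by
      suffices K ≤ LinearMap.ker (LinearMap.mulLeft A a) from this hz
      refine Ideal.span_le.2 ?_
      rintro _ ⟨y, hy, b, hb, j, hj, rfl⟩
      show a * (b * j) = 0
      rw [← mul_assoc]
      refine hkill (x * y) (by rw [pow_succ]; exact Ideal.mul_mem_mul hx hy) _ ?_ j hj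
      rw [map_mul, map_mul, hχ₁ x a ha, hb]
    refine ⟨χ, AlgHom.ext fun x => ?_⟩
    exact hχ₁ x (χ x) (AlgHom.congr_fun hχ x)

/-- Adic formal smoothness follows from lifting along small extensions. -/
theorem isAdicFormallySmooth_of_smallLifts [IsNoetherianRing S] (h : SmallLifts R S) :
    CAlgX.IsAdicFormallySmooth R S (maximalIdeal S) := by
  intro A _ _ J hJ ψ hk
  obtain ⟨k, hk⟩ := hk
  refine exists_lift_of_smallLifts h k J hJ ψ ⟨k, hk⟩ fun x hx a ha j hj => ?_
  have : a * j ∈ J ^ 2 := by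
    rw [pow_two]
    exact Ideal.mul_mem_mul (Ideal.Quotient.eq_zero_iff_mem.1 (ha.trans (hk x hx))) hj
  rwa [hJ] at this

end Groth.Agent.AdicSmooth
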