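/-
Vanishing of differentials and formal unramifiedness of quotients.
-/
import Mathlib.RingTheory.Unramified.Basic
import Mathlib.RingTheory.Kaehler.Basic

universe u v

namespace Groth.Agent.AdicSmooth

open KaehlerDifferential

variable {A : Type u} {B : Type v} [CommRing A] [CommRing B] [Algebra A B]

/-- If `Ω = I Ω` then `B ⧸ I` is formally unramified. -/
theorem formallyUnramified_quotient (I : Ideal B) (h : I • (⊤ : Submodule B (Ω[B⁄A])) = ⊤) :
    Algebra.FormallyUnramified A (B ⧸ I) := by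
  rw [Algebra.formallyUnramified_iff]
  refine subsingleton_of_forall_eq 0 fun x => ?_
  have hs : Function.Surjective (KaehlerDifferential.map A A B (B ⧸ I)) :=
    KaehlerDifferential.map_surjective_of_surjective A A B (B ⧸ I) Ideal.Quotient.mk_surjective
  obtain ⟨y, rfl⟩ := hs x
  have hy : y ∈ I • (⊤ : Submodule B (Ω[B⁄A])) := by rw [h]; trivial
  refine Submodule.smul_induction_on hy (fun r hr n _ => ?_) fun a b ha hb => by
    rw [map_add, ha, hb, add_zero]
  rw [map_smul, ← IsScalarTower.algebraMap_smul (B ⧸ I) r, Ideal.Quotient.algebraMap_eq,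
    Ideal.Quotient.eq_zero_iff_mem.2 hr, zero_smul]

/-- If `Ω = I Ω` then two maps killing `I` and congruent modulo a nilpotent ideal agree. -/
theorem algHom_ext_of_smul_top_eq_top {E : Type*} [CommRing E] [Algebra A E] (I : Ideal B)
    (h : I • (⊤ : Submodule B (Ω[B⁄A])) = ⊤) (J : Ideal E) (hJ : IsNilpotent J) (v₁ v₂ : B →ₐ[A] E)
    (h₁ : ∀ x ∈ I, v₁ x = 0) (h₂ : ∀ x ∈ I, v₂ x = 0)
    (heq : ∀ b, Ideal.Quotient.mk J (v₁ b) = Ideal.Quotient.mk J (v₂ b)) : v₁ = v₂ := by
  have := formallyUnramified_quotient I h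
  have key : Ideal.Quotient.liftₐ I v₁ h₁ = Ideal.Quotient.liftₐ I v₂ h₂ :=
    Algebra.FormallyUnramified.ext J hJ fun x => by
      obtain ⟨b, rfl⟩ := Ideal.Quotient.mk_surjective x
      exact heq b
  exact AlgHom.ext fun b => AlgHom.congr_fun key (Ideal.Quotient.mk I b)

end Groth.Agent.AdicSmooth
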